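import Cfsg.Prelude.Def_Spor_J4
import Mathlib.GroupTheory.PresentedGroup

/-!
The generators of the presented fourth Janko group and their first relations.
-/

set_option autoImplicit false

namespace CfsgLib.JankoFour

open Cfsg.Spor

/-- The relators of the presentation. -/
abbrev relsJ : Set (FreeGroup J4.Gen) := coxRelators J4.edges ∪ {r | r ∈ J4.extra}

/-- The projection from the free group. -/
abbrev projJ : FreeGroup J4.Gen →* Cfsg.Spor.J4 := PresentedGroup.mk relsJ

/-- The image of the generator `x`. -/
def xJ : Cfsg.Spor.J4 := projJ J4.x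

/-- The image of the generator `y`. -/
def yJ : Cfsg.Spor.J4 := projJ J4.y

/-- The image of the generator `t`. -/
def tJ : Cfsg.Spor.J4 := projJ J4.t

/-- The subgroup generated by `x` and `y`. -/
abbrev mSub : Subgroup Cfsg.Spor.J4 := Subgroup.closure {xJ, yJ}

/-- Every relator is trivial. -/
theorem rel_eq_one {w : FreeGroup J4.Gen} (h : w ∈ J4.extra) : projJ w = 1 :=
  PresentedGroup.one_of_mem (Or.inr h)

theorem xJ_sq : xJ ^ 2 = 1 := by
  have h := rel_eq_one (w := J4.x ^ 2) List.mem_cons_self
  rwa [map_pow] at h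

theorem yJ_cube : yJ ^ 3 = 1 := by
  have h := rel_eq_one (w := J4.y ^ 3) (List.mem_cons_of_mem _ List.mem_cons_self)
  rwa [map_pow] at h

theorem tJ_sq : tJ ^ 2 = 1 := by
  have h := rel_eq_one (w := J4.t ^ 2) (by simp [J4.extra])
  rwa [map_pow] at h

/-- The subgroup of the frozen statements is `mSub`. -/
theorem map_closure_eq_mSub :
    (Subgroup.closure ({J4.x, J4.y} : Set (FreeGroup J4.Gen))).map projJ = mSub := by
  rw [MonoidHom.map_closure]
  simp [mSub, xJ, yJ, Set.image_pair]

end CfsgLib.JankoFour
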