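import Cfsg.Agent.JankoFourRep.Bits
import Mathlib.GroupTheory.Perm.Cycle.Type
import Mathlib.LinearAlgebra.Matrix.GeneralLinearGroup.Defs

/-!
Numbers of vectors fixed by invertible matrices over the field with two elements:
congruences from commuting elements of prime order, and certificates for fixed spaces.
-/

set_option autoImplicit false

namespace CfsgLib.JankoFour.Fixed

open Matrix Finset


variable {n : ℕ}

/-- The row vectors. -/
abbrev Vec (n : ℕ) : Type := Fin n → ZMod 2

/-- The invertible matrices. -/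
abbrev GLV (n : ℕ) : Type := GL (Fin n) (ZMod 2)

/-- The number of vectors fixed by a matrix. -/
noncomputable def fixNum (a : (GLV n)) : ℕ := Nat.card {v : (Vec n) // v ᵥ* a.val = v}

/-- The number of vectors fixed by two matrices. -/
noncomputable def bothNum (a b : (GLV n)) : ℕ :=
  Nat.card {v : (Vec n) // v ᵥ* a.val = v ∧ v ᵥ* b.val = v}

theorem bothNum_comm (a b : (GLV n)) : bothNum a b = bothNum b a :=
  Nat.card_congr (Equiv.subtypeEquivRight fun _ => and_comm)

theorem bothNum_le (a b : (GLV n)) : bothNum a b ≤ fixNum a :=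
  Nat.card_le_card_of_injective (fun v => (⟨v.1, v.2.1⟩ : {v : (Vec n) // v ᵥ* a.val = v}))
    fun _ _ e => Subtype.ext (congrArg (fun w : {v : (Vec n) // v ᵥ* a.val = v} => w.1) e)

theorem card_vec : Nat.card (Vec n) = 2 ^ n := by
  rw [Nat.card_fun, Nat.card_zmod, Nat.card_eq_fintype_card, Fintype.card_fin]

/-- Additive subgroups of the space have order a power of two. -/
theorem card_sub (S : AddSubgroup (Vec n)) : ∃ e ≤ n, Nat.card S = 2 ^ e := by
  have h := S.card_addSubgroup_dvd_card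
  rw [card_vec] at h
  exact (Nat.dvd_prime_pow Nat.prime_two).1 h

theorem fixNum_pow (a : (GLV n)) : ∃ e ≤ n, fixNum a = 2 ^ e :=
  card_sub
    { carrier := {v | v ᵥ* a.val = v}
      zero_mem' := Matrix.zero_vecMul _
      add_mem' := fun {u v} hu hv => by
        show (u + v) ᵥ* a.val = u + v
        rw [Matrix.add_vecMul, hu, hv]
      neg_mem' := fun {u} hu => by
        show (-u) ᵥ* a.val = -u
        rw [Matrix.neg_vecMul, hu] }

theorem bothNum_pow (a b : (GLV n)) : ∃ e ≤ n, bothNum a b = 2 ^ e :=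
  card_sub
    { carrier := {v | v ᵥ* a.val = v ∧ v ᵥ* b.val = v}
      zero_mem' := ⟨Matrix.zero_vecMul _, Matrix.zero_vecMul _⟩
      add_mem' := fun {u v} hu hv => by
        show (u + v) ᵥ* a.val = u + v ∧ (u + v) ᵥ* b.val = u + v
        rw [Matrix.add_vecMul, Matrix.add_vecMul, hu.1, hv.1, hu.2, hv.2]
        exact ⟨rfl, rfl⟩
      neg_mem' := fun {u} hu => by
        show (-u) ᵥ* a.val = -u ∧ (-u) ᵥ* b.val = -u
        rw [Matrix.neg_vecMul, Matrix.neg_vecMul, hu.1, hu.2]
        exact ⟨rfl, rfl⟩ }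

/-- A permutation of prime order fixes as many points as there are, modulo the prime. -/
theorem card_fix_modEq {α : Type*} [Finite α] {p : ℕ} [hp : Fact p.Prime] {σ : Equiv.Perm α}
    (hσ : σ ^ p = 1) : Nat.card α ≡ Nat.card {x : α // σ x = x} [MOD p] := by
  classical
  have := Fintype.ofFinite α
  have h := Equiv.Perm.card_compl_support_modEq (p := p) (n := 1) (σ := σ) (by rwa [pow_one])
  have e : Nat.card {x : α // σ x = x} = σ.supportᶜ.card := by
    rw [Nat.card_eq_fintype_card, Fintype.card_subtype]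
    refine congrArg Finset.card (Finset.ext fun x => ?_)
    simp
  rw [e, Nat.card_eq_fintype_card]
  exact h.symm

/-- A matrix of order `p` acting on the vectors fixed by a matrix commuting with it. -/
theorem fix_modEq {a b : (GLV n)} {p : ℕ} [hp : Fact p.Prime] (ha : a ^ p = 1) (hab : a * b = b * a) :
    fixNum b ≡ bothNum b a [MOD p] := by
  classical
  have hst : ∀ {c : (GLV n)}, c * b = b * c → ∀ v : (Vec n), v ᵥ* b.val = v →
      v ᵥ* c.val ᵥ* b.val = v ᵥ* c.val := by
    intro c hc v hv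
    rw [Matrix.vecMul_vecMul, ← Units.val_mul, hc, Units.val_mul, ← Matrix.vecMul_vecMul, hv]
  let σ : Equiv.Perm {v : (Vec n) // v ᵥ* b.val = v} :=
    { toFun := fun v => ⟨v.1 ᵥ* a.val, hst hab v.1 v.2⟩
      invFun := fun v => ⟨v.1 ᵥ* (a⁻¹).val, hst (Commute.inv_left hab).eq v.1 v.2⟩
      left_inv := fun v => Subtype.ext (by
        show v.1 ᵥ* a.val ᵥ* (a⁻¹).val = v.1
        rw [Matrix.vecMul_vecMul, ← Units.val_mul, mul_inv_cancel, Units.val_one, Matrix.vecMul_one])
      right_inv := fun v => Subtype.ext (by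
        show v.1 ᵥ* (a⁻¹).val ᵥ* a.val = v.1
        rw [Matrix.vecMul_vecMul, ← Units.val_mul, inv_mul_cancel, Units.val_one, Matrix.vecMul_one]) }
  have hpow : ∀ (k : ℕ) (v : {v : (Vec n) // v ᵥ* b.val = v}), ((σ ^ k) v).1 = v.1 ᵥ* (a ^ k).val := by
    intro k
    induction k with
    | zero => intro v; simp
    | succ k ih =>
      intro v
      rw [pow_succ, Equiv.Perm.mul_apply, ih, pow_succ', Units.val_mul, ← Matrix.vecMul_vecMul]
      rfl
  have hσ : σ ^ p = 1 := Equiv.ext fun v => Subtype.ext (by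
    rw [hpow, ha, Units.val_one, Matrix.vecMul_one]; rfl)
  refine (card_fix_modEq hσ).trans (congrArg (· % p) ?_)
  exact Nat.card_congr
    { toFun := fun v => ⟨v.1.1, v.1.2, congrArg Subtype.val v.2⟩
      invFun := fun v => ⟨⟨v.1, v.2.1⟩, Subtype.ext v.2.2⟩
      left_inv := fun v => rfl
      right_inv := fun v => rfl }

/-- All vectors against the vectors fixed by a matrix of order `p`. -/
theorem vec_modEq {a : (GLV n)} {p : ℕ} [Fact p.Prime] (ha : a ^ p = 1) :
    2 ^ n ≡ fixNum a [MOD p] := by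
  have h := fix_modEq (b := 1) ha (by rw [mul_one, one_mul])
  have e1 : fixNum (1 : (GLV n)) = 2 ^ n :=
    (Nat.card_congr (Equiv.subtypeUnivEquiv fun v => Matrix.vecMul_one v)).trans card_vec
  have e2 : bothNum 1 a = fixNum a :=
    Nat.card_congr (Equiv.subtypeEquivRight fun v => and_iff_right (Matrix.vecMul_one v))
  rwa [e1, e2] at h

theorem fixNum_conj (k a : (GLV n)) : fixNum (k * a * k⁻¹) = fixNum a := by
  have hmul : ∀ (v : (Vec n)) (p q : (GLV n)), v ᵥ* p.val ᵥ* q.val = v ᵥ* (p * q).val := by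
    intro v p q
    rw [Matrix.vecMul_vecMul, Units.val_mul]
  refine Nat.card_congr
    { toFun := fun v => ⟨v.1 ᵥ* k.val, ?_⟩
      invFun := fun v => ⟨v.1 ᵥ* (k⁻¹).val, ?_⟩
      left_inv := fun v => Subtype.ext ?_
      right_inv := fun v => Subtype.ext ?_ }
  · conv_rhs => rw [← v.2, hmul, inv_mul_cancel_right]
    rw [hmul]
  · rw [hmul, show k⁻¹ * (k * a * k⁻¹) = a * k⁻¹ by group, ← hmul, v.2]
  · show v.1 ᵥ* k.val ᵥ* (k⁻¹).val = v.1
    rw [hmul, mul_inv_cancel, Units.val_one, Matrix.vecMul_one]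
  · show v.1 ᵥ* (k⁻¹).val ᵥ* k.val = v.1
    rw [hmul, inv_mul_cancel, Units.val_one, Matrix.vecMul_one]

theorem fixNum_le_pow (a : (GLV n)) (j : ℕ) : fixNum a ≤ fixNum (a ^ j) := by
  have h : ∀ v : (Vec n), v ᵥ* a.val = v → v ᵥ* (a ^ j).val = v := by
    intro v hv
    induction j with
    | zero => simp
    | succ j ih => rw [pow_succ, Units.val_mul, ← Matrix.vecMul_vecMul, ih, hv]
  exact Nat.card_le_card_of_injective
    (fun v => (⟨v.1, h v.1 v.2⟩ : {v : (Vec n) // v ᵥ* (a ^ j).val = v}))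
    fun _ _ e => Subtype.ext (congrArg (fun w : {v : (Vec n) // v ᵥ* (a ^ j).val = v} => w.1) e)

theorem eq_one_of_fixNum {a : (GLV n)} (h : fixNum a = 2 ^ n) : a = 1 := by
  classical
  rw [← card_vec] at h
  have hi : Function.Injective (fun v : {v : (Vec n) // v ᵥ* a.val = v} => v.1) :=
    fun _ _ e => Subtype.ext e
  have hs : Function.Surjective (fun v : {v : (Vec n) // v ᵥ* a.val = v} => v.1) :=
    ((Nat.bijective_iff_injective_and_card _).2 ⟨hi, h⟩).2
  refine Units.ext (Matrix.ext fun i j => ?_)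
  obtain ⟨⟨v, hv⟩, rfl⟩ := hs (Pi.single i 1)
  have := congrFun hv j
  rw [Matrix.single_one_vecMul] at this
  refine Eq.trans (this : a.val i j = _) ?_
  rw [Units.val_one, Matrix.one_apply, Pi.single_apply]
  simp [eq_comm]

/-! ### Certificates -/

open CfsgLib.JankoFourRep

/-- A matrix given by packed rows. -/
def rect (a b : ℕ) (L : List ℕ) : Matrix (Fin a) (Fin b) (ZMod 2) :=
  Matrix.of fun i j => bit (L.getD i.val 0) j.val

theorem bit_two_pow (i j : ℕ) : bit (2 ^ i) j = if i = j then 1 else 0 := by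
  by_cases h : i = j
  · subst h; simp [bit]
  · simp [bit, h]

theorem rect_mul {a b c : ℕ} {A B : List ℕ} (hB : B.length = b) :
    rect a b A * rect b c B = Matrix.of fun i j => bit (rowMul B (A.getD i.val 0)) j.val := by
  ext i j
  simp only [rect, Matrix.mul_apply, Matrix.of_apply]
  rw [bit_rowMul, hB, ← Fin.sum_univ_eq_sum_range (fun m => bit (A.getD i.val 0) m * bit (B.getD m 0) j.val) b]

/-- A certificate that the matrix with rows `A` fixes exactly `2 ^ k` vectors. -/
def certOk (n : ℕ) (A K R S : List ℕ) : Bool :=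
  A.length == n && R.length == n && S.length == n &&
  ((List.range n).all fun i => Nat.beq
    (rowMul S (A.getD i 0) ^^^ S.getD i 0 ^^^ rowMul K (R.getD i 0)) (2 ^ i)) &&
  ((List.range K.length).all fun j =>
    Nat.beq (rowMul A (K.getD j 0)) (K.getD j 0) && Nat.beq (rowMul R (K.getD j 0)) (2 ^ j))

theorem fixNum_of_cert {a : (GLV n)} {A K R S : List ℕ} (ha : a.val = rect n n A)
    (h : certOk n A K R S = true) : fixNum a = 2 ^ K.length := by
  simp only [certOk, Bool.and_eq_true, beq_iff_eq, List.all_eq_true, List.mem_range] at h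
  obtain ⟨⟨⟨⟨hA, hR⟩, hS⟩, hI⟩, hK⟩ := h
  set k := K.length with hk
  set Sm : Matrix (Fin n) (Fin n) (ZMod 2) := rect n n S
  set Rm : Matrix (Fin n) (Fin k) (ZMod 2) := rect n k R
  set Km : Matrix (Fin k) (Fin n) (ZMod 2) := rect k n K
  have e1 : rect n n A * Sm + Sm + Rm * Km = 1 := by
    ext i j
    rw [rect_mul hS, rect_mul hk.symm]
    simp only [Sm, rect, Matrix.add_apply, Matrix.of_apply, Matrix.one_apply]
    rw [← bit_xor, ← bit_xor, Nat.eq_of_beq_eq_true (hI i.val i.isLt), bit_two_pow]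
    exact if_congr Fin.ext_iff.symm rfl rfl
  have e2 : Km * rect n n A = Km := by
    ext i j
    rw [rect_mul hA]
    simp only [Km, rect, Matrix.of_apply]
    rw [Nat.eq_of_beq_eq_true (hK i.val i.isLt).1]
  have e3 : Km * Rm = 1 := by
    ext i j
    rw [rect_mul hR]
    simp only [Matrix.of_apply, Matrix.one_apply]
    rw [Nat.eq_of_beq_eq_true (hK i.val i.isLt).2, bit_two_pow]
    exact if_congr Fin.ext_iff.symm rfl rfl
  have hid : ∀ v : (Vec n), v ᵥ* a.val = v → v ᵥ* Rm ᵥ* Km = v := by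
    intro v hv
    rw [ha] at hv
    have h2 : v ᵥ* Sm + v ᵥ* Sm = 0 := funext fun j => CharTwo.add_self_eq_zero _
    have h3 := congrArg (fun X => v ᵥ* X) e1
    simp only [Matrix.vecMul_add, ← Matrix.vecMul_vecMul, Matrix.vecMul_one, hv, h2, zero_add] at h3
    exact h3
  have hfix : ∀ w : Fin k → ZMod 2, w ᵥ* Km ᵥ* a.val = w ᵥ* Km := by
    intro w
    rw [ha, Matrix.vecMul_vecMul, e2]
  let e : {v : (Vec n) // v ᵥ* a.val = v} ≃ (Fin k → ZMod 2) :=
    { toFun := fun v => v.1 ᵥ* Rm
      invFun := fun w => ⟨w ᵥ* Km, hfix w⟩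
      left_inv := fun v => Subtype.ext (hid v.1 v.2)
      right_inv := fun w => by
        show w ᵥ* Km ᵥ* Rm = w
        rw [Matrix.vecMul_vecMul, e3, Matrix.vecMul_one] }
  rw [fixNum, Nat.card_congr e, Nat.card_fun, Nat.card_zmod, Nat.card_eq_fintype_card,
    Fintype.card_fin]

/-- A certificate that the only vectors fixed by two matrices are `0` and one vector. -/
def lineOk (n : ℕ) (A B : List ℕ) (u : ℕ) (R S T : List ℕ) : Bool :=
  S.length == n && T.length == n &&
  ((List.range n).all fun i => Nat.beq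
    ((rowMul S (A.getD i 0) ^^^ S.getD i 0) ^^^ (rowMul T (B.getD i 0) ^^^ T.getD i 0) ^^^
      rowMul [u] (R.getD i 0)) (2 ^ i))

theorem line_of_cert {A B R S T : List ℕ} {u : ℕ} (h : lineOk n A B u R S T = true) (v : (Vec n))
    (hA : v ᵥ* rect n n A = v) (hB : v ᵥ* rect n n B = v) : v = 0 ∨ v = fun j => bit u j.val := by
  simp only [lineOk, Bool.and_eq_true, beq_iff_eq, List.all_eq_true, List.mem_range] at h
  obtain ⟨⟨hS, hT⟩, hI⟩ := h
  set Sm : Matrix (Fin n) (Fin n) (ZMod 2) := rect n n S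
  set Tm : Matrix (Fin n) (Fin n) (ZMod 2) := rect n n T
  set Rm : Matrix (Fin n) (Fin 1) (ZMod 2) := rect n 1 R
  set Km : Matrix (Fin 1) (Fin n) (ZMod 2) := rect 1 n [u]
  have e1 : rect n n A * Sm + Sm + (rect n n B * Tm + Tm) + Rm * Km = 1 := by
    ext i j
    rw [rect_mul hS, rect_mul hT, rect_mul (show [u].length = 1 from rfl)]
    simp only [Sm, Tm, rect, Matrix.add_apply, Matrix.of_apply, Matrix.one_apply]
    rw [← bit_xor, ← bit_xor, ← bit_xor, ← bit_xor, Nat.eq_of_beq_eq_true (hI i.val i.isLt),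
      bit_two_pow]
    exact if_congr Fin.ext_iff.symm rfl rfl
  have h2 : v ᵥ* Sm + v ᵥ* Sm = 0 := funext fun j => CharTwo.add_self_eq_zero _
  have h2' : v ᵥ* Tm + v ᵥ* Tm = 0 := funext fun j => CharTwo.add_self_eq_zero _
  have h3 := congrArg (fun X => v ᵥ* X) e1
  simp only [Matrix.vecMul_add, ← Matrix.vecMul_vecMul, Matrix.vecMul_one, hA, hB, h2, h2',
    zero_add] at h3
  have hv : v = (v ᵥ* Rm) ᵥ* Km := h3.symm
  rcases (show (v ᵥ* Rm) 0 = 0 ∨ (v ᵥ* Rm) 0 = 1 by
    generalize (v ᵥ* Rm) 0 = z; revert z; decide) with e | e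
  · left
    rw [hv]
    ext j
    simp [Matrix.vecMul, dotProduct] at e ⊢
    simp [e]
  · right
    rw [hv]
    ext j
    simp [Matrix.vecMul, dotProduct, Km, rect] at e ⊢
    simp [e]

end CfsgLib.JankoFour.Fixed
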