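import Cfsg.Agent.JankoFour.SimpleData
import Cfsg.Agent.JankoFour.SimpleFixed
import Cfsg.Agent.JankoFourRep.Letters

/-! Kernel checks of the certificates used for the simplicity of the presented fourth Janko group. -/

set_option autoImplicit false

namespace CfsgLib.JankoFour.SimpleData

open CfsgLib.JankoFourRep CfsgLib.JankoFour.Fixed

theorem fix_g_ok : certOk 112 rowsBase2 kerG selG solG = true := by decide +kernel

theorem fix_h_ok : certOk 112 rowsBase4 kerH selH solH = true := by decide +kernel

theorem fix_z_ok : certOk 112 rowsThirtyOne kerZ selZ solZ = true := by decide +kernel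

theorem ker_lengths : kerG.length = 2 ∧ kerH.length = 24 ∧ kerZ.length = 2 := by decide +kernel

theorem thirtyOne_ok :
    isMat rowsOf [0, 1, 0, 1, 3, 0, 2, 0, 1, 0, 1, 0, 2] rowsThirtyOne = true := by decide +kernel

theorem thirtyOne_pow : isOne (fun _ => rowsThirtyOne) (List.replicate 31 0) = true := by
  decide +kernel

theorem thirtyOne_ne : Nat.beq (rowsThirtyOne.getD 0 0) 1 = false := by decide +kernel

theorem line_ok : lineOk 112 rowsX rowsY 1 selM solX solY = true := by decide +kernel

theorem line_fix : rowMul rowsX 1 = 1 ∧ rowMul rowsY 1 = 1 := by decide +kernel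

theorem orbit_ok : ((List.range 112).all fun i =>
    Nat.beq (evalRow rowsOf (orbitWords.getD i []) 1) (orbitRows.getD i 0)) = true := by
  decide +kernel

theorem orbit_inv : orbitRows.length = 112 ∧ orbitInv.length = 112 ∧
    isOne (fun c => bif Nat.beq c 0 then orbitRows else orbitInv) [0, 1] = true := by decide +kernel

end CfsgLib.JankoFour.SimpleData
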