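import Cfsg.Prelude.Def_Sporadic
import Cfsg.Prelude.Def_Sporadic_a
import Cfsg.Agent.JankoFour.Basic
import Cfsg.Agent.JankoFour.SimpleChecks
import Cfsg.Agent.JankoFourRep.Rep
import Cfsg.Agent.Mathieu.SmallSimple
import Cfsg.Agent.Mathieu.M24Order
import Mathlib.GroupTheory.Sylow

/-!
# The presented fourth Janko group is simple, given its order

A proper non-trivial normal subgroup meets the subgroup `M24` trivially, so its order divides the
index `2^11 · 11^2 · 29 · 31 · 37 · 43`.  An element of such an odd prime order normalising nothing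
larger commutes with an element of order `23` and one of order `5`, which the fixed spaces in the
representation of degree `112` forbid; a normal `2`-subgroup is then central, and the centre fixes
the unique vector fixed by `x` and `y`, whose orbit spans.
-/

set_option autoImplicit false
set_option linter.style.haveILetI false

namespace CfsgLib.JankoFour

open Cfsg.Spor CfsgLib.JankoFour.Fixed

/-! ### Arithmetic -/

theorem exp_twentyThree : ∀ p : ℕ, p = 11 ∨ p = 29 ∨ p = 37 ∨ p = 43 →
    ∀ e ≤ 2, 4 % p = 2 ^ e % p → e = 2 := by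
  intro p hp e he h
  rcases hp with rfl | rfl | rfl | rfl <;> interval_cases e <;> simp_all

theorem exp_fix : ∀ p : ℕ, p = 11 ∨ p = 29 ∨ p = 37 ∨ p = 43 →
    ∀ d < 113, 2 ^ d % 23 = 4 → 2 ^ 112 % p = 2 ^ d % p → d = 112 ∨ p = 11 ∧ d = 2 := by
  have h : ∀ d < 113, 2 ^ d % 23 = 4 →
      (2 ^ 112 % 11 = 2 ^ d % 11 → d = 112 ∨ d = 2) ∧ (2 ^ 112 % 29 = 2 ^ d % 29 → d = 112) ∧
      (2 ^ 112 % 37 = 2 ^ d % 37 → d = 112) ∧ (2 ^ 112 % 43 = 2 ^ d % 43 → d = 112) := by
    decide +kernel
  intro p hp d hd h1 h2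
  rcases hp with rfl | rfl | rfl | rfl
  · exact ((h d hd h1).1 h2).imp id fun e => ⟨rfl, e⟩
  · exact Or.inl ((h d hd h1).2.1 h2)
  · exact Or.inl ((h d hd h1).2.2.1 h2)
  · exact Or.inl ((h d hd h1).2.2.2 h2)

theorem exp_five : ∀ e ≤ 2, 2 ^ 2 % 5 = 2 ^ e % 5 → e = 2 := by
  intro e he h; interval_cases e <;> simp_all

/-! ### Groups -/

section

variable {G : Type*} [Group G] [Finite G]

/-- A simple subgroup `M` avoiding the normal subgroup `N` forces an element of `N` of order `p`
commuting with a given element of `M` of prime order `q`. -/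
theorem exists_cent {M N : Subgroup G} [N.Normal] [IsSimpleGroup M] (hMN : M ⊓ N = ⊥)
    {p q : ℕ} [hp : Fact p.Prime] [hq : Fact q.Prime]
    (hsmall : ∀ R : Subgroup G, IsPGroup p R → R ≤ N →
      Nat.card R ∣ p ^ 2 ∧ Nat.card R ^ 2 < Nat.card M)
    (P : Sylow p N) {x : G} (hx : x ∈ M) (hxq : orderOf x = q) (hq2 : ¬ q ^ 2 ∣ Nat.card G) :
    ∃ k : G, k * x * k⁻¹ ∈
      Subgroup.centralizer (((P : Subgroup N).map N.subtype : Subgroup G) : Set G) := by
  classical
  obtain ⟨R, hR⟩ : ∃ R, R = (P : Subgroup N).map N.subtype := ⟨_, rfl⟩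
  have hRN : R ≤ N := by rw [hR]; exact Subgroup.map_subtype_le _
  have hRp : IsPGroup p R := by rw [hR]; exact P.2.map _
  obtain ⟨hRdvd, hRsmall⟩ := hsmall R hRp hRN
  by_cases hR1 : R = ⊥
  · refine ⟨1, ?_⟩
    rw [← hR, hR1]
    exact Subgroup.mem_centralizer_iff.2 fun r hr => by
      rw [Subgroup.mem_bot.1 hr, one_mul, mul_one]
  obtain ⟨K, hK⟩ : ∃ K, K = Subgroup.normalizer (R : Set G) := ⟨_, rfl⟩
  obtain ⟨C, hC⟩ : ∃ C, C = Subgroup.centralizer (R : Set G) := ⟨_, rfl⟩
  have hKN : K ⊔ N = ⊤ := by rw [hK, hR]; exact Sylow.normalizer_sup_eq_top P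
  -- two generators
  obtain ⟨a, ha, b, hb, hgen⟩ : ∃ a ∈ R, ∃ b ∈ R, R ≤ Subgroup.closure {a, b} := by
    obtain ⟨a, haR, ha1⟩ : ∃ a ∈ R, a ≠ 1 := by
      by_contra h
      push Not at h
      exact hR1 ((Subgroup.eq_bot_iff_forall R).2 h)
    by_cases hb : ∃ b ∈ R, b ∉ Subgroup.zpowers a
    · obtain ⟨b, hbR, hba⟩ := hb
      refine ⟨a, haR, b, hbR, ?_⟩
      have hle : Subgroup.closure {a, b} ≤ R := by
        rw [Subgroup.closure_le]
        rintro y (rfl | rfl) <;> assumption
      have hza : Subgroup.zpowers a < Subgroup.closure {a, b} := lt_of_le_of_ne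
        (Subgroup.zpowers_le.2 (Subgroup.subset_closure (by simp)))
        fun e => hba (e ▸ Subgroup.subset_closure (by simp))
      obtain ⟨i, hi, hci⟩ := (Nat.dvd_prime_pow hp.out).1
        ((Subgroup.card_dvd_of_le hle).trans hRdvd)
      obtain ⟨j, hj, hcj⟩ := (Nat.dvd_prime_pow hp.out).1
        ((Subgroup.card_dvd_of_le (hza.le.trans hle)).trans hRdvd)
      have h1 : 1 ≤ j := by
        by_contra h0
        rw [show j = 0 by omega, pow_zero, Nat.card_zpowers, orderOf_eq_one_iff] at hcj
        exact ha1 hcj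
      have hlt : j < i := by
        by_contra h0
        refine hza.ne (Subgroup.eq_of_le_of_card_ge hza.le ?_)
        rw [hci, hcj]
        exact Nat.pow_le_pow_right hp.out.pos (by omega)
      refine (Subgroup.eq_of_le_of_card_ge hle ?_).ge
      rw [hci, show i = 2 by omega]
      exact Nat.le_of_dvd (pow_pos hp.out.pos 2) hRdvd
    · push Not at hb
      exact ⟨a, haR, a, haR, fun y hy => (Subgroup.zpowers_le.2 (Subgroup.subset_closure (by simp)) :
        Subgroup.zpowers a ≤ Subgroup.closure {a, a}) (hb y hy)⟩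
  -- the centraliser covers `M`
  have hCK : ∀ k ∈ K, ∀ y ∈ C, k * y * k⁻¹ ∈ C := by
    intro k hk y hy
    rw [hC] at hy ⊢
    rw [hK] at hk
    refine Subgroup.mem_centralizer_iff.2 fun r hr => ?_
    have hr' : k⁻¹ * r * k ∈ R := by
      have := (Subgroup.mem_normalizer_iff.1 (inv_mem hk) r).1 hr
      rwa [inv_inv] at this
    calc r * (k * y * k⁻¹) = k * ((k⁻¹ * r * k) * y) * k⁻¹ := by group
      _ = k * (y * (k⁻¹ * r * k)) * k⁻¹ := by rw [Subgroup.mem_centralizer_iff.1 hy _ hr']
      _ = k * y * k⁻¹ * r := by group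
  obtain ⟨π, hπ⟩ : ∃ π : G →* G ⧸ N, π = QuotientGroup.mk' N := ⟨_, rfl⟩
  have hπsurj : ∀ z, ∃ k ∈ K, π k = z := by
    intro z
    have : K.map π = ⊤ := by
      have h := congrArg (Subgroup.map π) hKN
      rw [Subgroup.map_sup, Subgroup.map_top_of_surjective _ (hπ ▸ QuotientGroup.mk'_surjective N),
        (Subgroup.map_eq_bot_iff N).2 (by rw [hπ, QuotientGroup.ker_mk']), sup_bot_eq] at h
      exact h
    exact (this.ge (Subgroup.mem_top z) : z ∈ K.map π)
  obtain ⟨D, hD⟩ : ∃ D : Subgroup M, D = ((C.map π).comap π).subgroupOf M := ⟨_, rfl⟩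
  haveI hCn : (C.map π).Normal := ⟨fun z hz g => by
    obtain ⟨k, hk, rfl⟩ := hπsurj g
    obtain ⟨y, hy, rfl⟩ := hz
    exact ⟨k * y * k⁻¹, hCK k hk y hy, by rw [map_mul, map_mul, map_inv]⟩⟩
  haveI hDn : D.Normal := by rw [hD]; infer_instance
  rcases hDn.eq_bot_or_eq_top with hbot | htop
  · exfalso
    let ι : M → (G ⧸ N) ⧸ C.map π := fun m => QuotientGroup.mk (π (m : G))
    have hι : Function.Injective ι := by
      intro m m' e
      have hmem : m⁻¹ * m' ∈ D := by
        rw [hD, Subgroup.mem_subgroupOf, Subgroup.mem_comap, Subgroup.coe_mul, Subgroup.coe_inv,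
          map_mul, map_inv]
        exact QuotientGroup.eq.1 e
      rw [hbot, Subgroup.mem_bot, inv_mul_eq_one] at hmem
      exact hmem
    let ω : K → R × R := fun k =>
      (⟨(k : G) * a * (k : G)⁻¹, (Subgroup.mem_normalizer_iff.1 (hK ▸ k.2) a).1 ha⟩,
        ⟨(k : G) * b * (k : G)⁻¹, (Subgroup.mem_normalizer_iff.1 (hK ▸ k.2) b).1 hb⟩)
    have hω : ∀ k k' : K, ω k = ω k' → (QuotientGroup.mk (π k) : (G ⧸ N) ⧸ C.map π) =
        QuotientGroup.mk (π k') := by
      intro k k' e
      have e1 : (k : G) * a * (k : G)⁻¹ = (k' : G) * a * (k' : G)⁻¹ :=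
        congrArg (fun z : R × R => (z.1 : G)) e
      have e2 : (k : G) * b * (k : G)⁻¹ = (k' : G) * b * (k' : G)⁻¹ :=
        congrArg (fun z : R × R => (z.2 : G)) e
      refine QuotientGroup.eq.2 ⟨(k : G)⁻¹ * k', ?_, by rw [map_mul, map_inv]⟩
      have key : ∀ {y : G}, (k : G) * y * (k : G)⁻¹ = (k' : G) * y * (k' : G)⁻¹ →
          ((k : G)⁻¹ * k') * y = y * ((k : G)⁻¹ * k') := by
        intro y h
        calc ((k : G)⁻¹ * k') * y = (k : G)⁻¹ * ((k' : G) * y * (k' : G)⁻¹) * k' := by group
          _ = _ := by rw [← h]; group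
      rw [hC]
      have hle : R ≤ Subgroup.centralizer ({(k : G)⁻¹ * k'} : Set G) := by
        refine hgen.trans ((Subgroup.closure_le _).2 ?_)
        rintro y (rfl | rfl)
        · exact Subgroup.mem_centralizer_singleton_iff.2 (key e1).symm
        · exact Subgroup.mem_centralizer_singleton_iff.2 (key e2).symm
      exact Subgroup.mem_centralizer_iff.2 fun r hr => Subgroup.mem_centralizer_singleton_iff.1 (hle hr)
    have hsurj : ∀ z : (G ⧸ N) ⧸ C.map π, ∃ k : K, QuotientGroup.mk (π k) = z := by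
      intro z
      obtain ⟨z, rfl⟩ := QuotientGroup.mk_surjective z
      obtain ⟨k, hk, rfl⟩ := hπsurj z
      exact ⟨⟨k, hk⟩, rfl⟩
    choose sec hsec using hsurj
    have hinj : Function.Injective fun z => ω (sec z) := fun z z' e => by
      rw [← hsec z, ← hsec z']
      exact hω _ _ e
    have := (Nat.card_le_card_of_injective ι hι).trans (Nat.card_le_card_of_injective _ hinj)
    rw [Nat.card_prod, ← pow_two] at this
    omega
  · have hxD : (⟨x, hx⟩ : M) ∈ D := htop ▸ Subgroup.mem_top _
    rw [hD, Subgroup.mem_subgroupOf, Subgroup.mem_comap] at hxD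
    obtain ⟨y, hy, hyx⟩ := hxD
    have hne : π x ≠ 1 := fun e => by
      rw [hπ] at e
      have hxN : x ∈ M ⊓ N := ⟨hx, (QuotientGroup.eq_one_iff x).1 e⟩
      rw [hMN, Subgroup.mem_bot] at hxN
      rw [hxN, orderOf_one] at hxq
      exact hq.out.ne_one hxq.symm
    have hoπ : orderOf (π x) = q := orderOf_eq_prime (by rw [← map_pow, ← hxq, pow_orderOf_eq_one, map_one]) hne
    have hdvd : q ∣ orderOf y := hoπ ▸ hyx ▸ orderOf_map_dvd π y
    obtain ⟨y', hy', hy'q⟩ : ∃ y' ∈ C, orderOf y' = q :=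
      ⟨y ^ (orderOf y / q), pow_mem hy _, orderOf_pow_orderOf_div (orderOf_pos y).ne' hdvd⟩
    have hfac : (Nat.card G).factorization q = 1 := by
      refine le_antisymm ?_ (hq.out.factorization_pos_of_dvd Nat.card_pos.ne'
        (hxq ▸ orderOf_dvd_natCard x))
      by_contra h
      exact hq2 ((hq.out.pow_dvd_iff_le_factorization Nat.card_pos.ne').2 (by omega))
    have mk : ∀ z : G, orderOf z = q → ∃ Z : Sylow q G, (Z : Subgroup G) = Subgroup.zpowers z :=
      fun z hz => ⟨Sylow.ofCard (Subgroup.zpowers z) (by rw [Nat.card_zpowers, hz, hfac, pow_one]), rfl⟩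
    obtain ⟨Y, hY⟩ := mk y' hy'q
    obtain ⟨X, hX⟩ := mk x hxq
    obtain ⟨k, hk⟩ := MulAction.exists_smul_eq G Y X
    have hxk : k⁻¹ * x * k ∈ Subgroup.zpowers y' := by
      have hxX : x ∈ (X : Subgroup G) := hX ▸ Subgroup.mem_zpowers x
      rw [← hk, Sylow.coe_subgroup_smul, Subgroup.mem_pointwise_smul_iff_inv_smul_mem, hY] at hxX
      simpa [MulAut.conj_inv_apply, MulAut.smul_def] using hxX
    refine ⟨k⁻¹, ?_⟩
    rw [inv_inv, ← hR]
    exact hC ▸ (Subgroup.zpowers_le.2 hy') hxk

/-- An element of `N` of order `p` commuting with a given element of prime order of `M`. -/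
theorem exists_commute {M N : Subgroup G} [N.Normal] [IsSimpleGroup M] (hMN : M ⊓ N = ⊥)
    {p q : ℕ} [hp : Fact p.Prime] [hq : Fact q.Prime] (hpN : p ∣ Nat.card N)
    (hsmall : ∀ R : Subgroup G, IsPGroup p R → R ≤ N →
      Nat.card R ∣ p ^ 2 ∧ Nat.card R ^ 2 < Nat.card M)
    {x : G} (hx : x ∈ M) (hxq : orderOf x = q) (hq2 : ¬ q ^ 2 ∣ Nat.card G) :
    ∃ c ∈ N, orderOf c = p ∧ c * x = x * c := by
  obtain ⟨P⟩ : Nonempty (Sylow p N) := inferInstance
  obtain ⟨k, hk⟩ := exists_cent hMN hsmall P hx hxq hq2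
  obtain ⟨r, hr⟩ := exists_prime_orderOf_dvd_card' (G := (P : Subgroup N)) p
    (P.dvd_card_of_dvd_card hpN)
  have h := Subgroup.mem_centralizer_iff.1 hk ((r : N) : G) ⟨r, r.2, rfl⟩
  refine ⟨k⁻¹ * ((r : N) : G) * k, ?_, ?_, ?_⟩
  · simpa using Subgroup.Normal.conj_mem inferInstance _ (r : N).2 k⁻¹
  · refine Eq.trans ?_ hr
    rw [← Subgroup.orderOf_coe r, ← Subgroup.orderOf_coe (r : N)]
    simpa using (MulAut.conj k⁻¹).orderOf_eq ((r : N) : G)
  · calc k⁻¹ * ((r : N) : G) * k * x = k⁻¹ * (((r : N) : G) * (k * x * k⁻¹)) * k := by group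
      _ = _ := by rw [h]; group

end

/-! ### The representation -/

open CfsgLib.JankoFourRep (rep toMat rowsOf rowsOf_length)

theorem rep_xS : (rep xJ).val = toMat (rowsOf 0) := by
  rw [show xJ = PresentedGroup.of J4.Gen.x from rfl, JankoFourRep.rep_of]; rfl

theorem rep_yS : (rep yJ).val = toMat (rowsOf 1) ∧ ((rep yJ)⁻¹).val = toMat (rowsOf 2) := by
  rw [show yJ = PresentedGroup.of J4.Gen.y from rfl, JankoFourRep.rep_of]; exact ⟨rfl, rfl⟩

theorem rep_tS : (rep tJ).val = toMat (rowsOf 3) := by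
  rw [show tJ = PresentedGroup.of J4.Gen.t from rfl, JankoFourRep.rep_of]; rfl

/-- The value of a letter. -/
def letS : ℕ → Cfsg.Spor.J4
  | 0 => xJ
  | 1 => yJ
  | 2 => yJ⁻¹
  | _ => tJ

/-- The value of a word. -/
def wordJ (w : List ℕ) : Cfsg.Spor.J4 := (w.map letS).prod

theorem rep_wordJ (w : List ℕ) : (rep (wordJ w)).val = (w.map fun c => toMat (rowsOf c)).prod := by
  induction w with
  | nil => simp [wordJ]
  | cons c w ih =>
    rw [wordJ, List.map_cons, List.prod_cons, map_mul, Units.val_mul, List.map_cons, List.prod_cons,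
      ← ih]
    congr 1
    match c with
    | 0 => exact rep_xS
    | 1 => exact rep_yS.1
    | 2 => rw [show letS 2 = yJ⁻¹ from rfl, map_inv]; exact rep_yS.2
    | m + 3 => exact rep_tS

/-- `x y`. -/
def gJ : Cfsg.Spor.J4 := wordJ [0, 1]

/-- `[x, y x y]`. -/
def hJ : Cfsg.Spor.J4 := wordJ [0, 2, 0, 2, 0, 1, 0, 1]

/-- An element of order `31`. -/
def zJ : Cfsg.Spor.J4 := wordJ [0, 1, 0, 1, 3, 0, 2, 0, 1, 0, 1, 0, 2]

theorem rep_gJ : (rep gJ).val = toMat JankoFourRep.rowsBase2 :=
  (rep_wordJ _).trans (JankoFourRep.prod_eq_of_isMat rowsOf_length JankoFourRep.base2_ok)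

theorem rep_hJ : (rep hJ).val = toMat JankoFourRep.rowsBase4 :=
  (rep_wordJ _).trans (JankoFourRep.prod_eq_of_isMat rowsOf_length JankoFourRep.base4_ok)

theorem rep_zJ : (rep zJ).val = toMat SimpleData.rowsThirtyOne :=
  (rep_wordJ _).trans (JankoFourRep.prod_eq_of_isMat rowsOf_length SimpleData.thirtyOne_ok)

theorem fix_gJ : fixNum (rep gJ) = 2 ^ 2 :=
  (fixNum_of_cert rep_gJ SimpleData.fix_g_ok).trans (by rw [SimpleData.ker_lengths.1])

theorem fix_hJ : fixNum (rep hJ) = 2 ^ 24 :=
  (fixNum_of_cert rep_hJ SimpleData.fix_h_ok).trans (by rw [SimpleData.ker_lengths.2.1])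

theorem fix_zJ : fixNum (rep zJ) = 2 ^ 2 :=
  (fixNum_of_cert rep_zJ SimpleData.fix_z_ok).trans (by rw [SimpleData.ker_lengths.2.2])

theorem fixNum_one : fixNum (1 : GLV 112) = 2 ^ 112 :=
  (Nat.card_congr (Equiv.subtypeUnivEquiv fun v => Matrix.vecMul_one v)).trans card_vec

theorem orderOf_prime_of_fix {u : Cfsg.Spor.J4} {p : ℕ} [Fact p.Prime] (hp : (u : Cfsg.Spor.J4) ^ p = 1)
    {d : ℕ} (hd : d < 112) (hf : fixNum (rep u) = 2 ^ d) : orderOf u = p := by
  refine orderOf_eq_prime hp fun e => ?_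
  rw [e, map_one, fixNum_one] at hf
  exact absurd (Nat.pow_right_injective (le_refl 2) hf) (by omega)

theorem gJ_pow : gJ ^ 23 = 1 := by
  have h := rel_eq_one (w := (J4.x * J4.y) ^ 23) (by simp [J4.extra])
  rw [map_pow, map_mul] at h
  simpa [gJ, wordJ, letS, xJ, yJ] using h

theorem hJ_pow : hJ ^ 5 = 1 := by
  have h := rel_eq_one (w := (J4.x⁻¹ * (J4.y * J4.x * J4.y)⁻¹ * J4.x * (J4.y * J4.x * J4.y)) ^ 5)
    (by simp [J4.extra])
  rw [map_pow] at h
  have hxi : xJ⁻¹ = xJ := inv_eq_of_mul_eq_one_right (by rw [← pow_two, xJ_sq])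
  simp only [map_mul, map_inv, ← show xJ = projJ J4.x from rfl, ← show yJ = projJ J4.y from rfl,
    mul_inv_rev, hxi] at h
  simpa [hJ, wordJ, letS, mul_assoc] using h

theorem mem_mSub_word {w : List ℕ} (h : ∀ c ∈ w, c < 3) : wordJ w ∈ mSub := by
  refine Subgroup.list_prod_mem _ fun u hu => ?_
  obtain ⟨c, hc, rfl⟩ := List.mem_map.1 hu
  have := h c hc
  interval_cases c
  · exact Subgroup.subset_closure (Or.inl rfl)
  · exact Subgroup.subset_closure (Or.inr rfl)
  · exact inv_mem (Subgroup.subset_closure (Or.inr rfl))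

theorem eq_one_symm {n : ℕ} (A B : Matrix (Fin n) (Fin n) (ZMod 2)) (h : A * B = 1) : B * A = 1 :=
  mul_eq_one_comm.1 h

/-- The only element of the image commuting with the images of the generators is `1`. -/
theorem eq_one_of_central {a : GLV 112} (h : ∀ u : Cfsg.Spor.J4, a * rep u = rep u * a) : a = 1 := by
  have hfix : ∀ (u : Cfsg.Spor.J4) (v : Vec 112), Matrix.vecMul v (rep u).val = v →
      Matrix.vecMul (Matrix.vecMul v a.val) (rep u).val = Matrix.vecMul v a.val := by
    intro u v hv
    rw [Matrix.vecMul_vecMul, ← Units.val_mul, h u, Units.val_mul, ← Matrix.vecMul_vecMul, hv]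
  obtain ⟨v, hv⟩ : ∃ v : Vec 112, v = JankoFourRep.vecOf 1 := ⟨_, rfl⟩
  have hvx : Matrix.vecMul v (toMat (rowsOf 0)) = v := by
    rw [hv, ← JankoFourRep.vecOf_rowMul (rowsOf_length 0)]
    exact congrArg JankoFourRep.vecOf SimpleData.line_fix.1
  have hvy : Matrix.vecMul v (toMat (rowsOf 1)) = v := by
    rw [hv, ← JankoFourRep.vecOf_rowMul (rowsOf_length 1)]
    exact congrArg JankoFourRep.vecOf SimpleData.line_fix.2
  have hva : Matrix.vecMul v a.val = v := by
    have h1 := hfix xJ v (by rw [rep_xS]; exact hvx)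
    have h2 := hfix yJ v (by rw [rep_yS.1]; exact hvy)
    rw [rep_xS] at h1
    rw [rep_yS.1] at h2
    rcases line_of_cert SimpleData.line_ok _ h1 h2 with e | e
    · exfalso
      have h0 := congrArg (fun w => Matrix.vecMul w (a⁻¹).val) e
      simp only [Matrix.zero_vecMul, Matrix.vecMul_vecMul, ← Units.val_mul, mul_inv_cancel,
        Units.val_one, Matrix.vecMul_one] at h0
      have h00 := congrFun h0 ⟨0, by norm_num⟩
      rw [hv] at h00
      exact absurd h00 (by decide)
    · exact e.trans hv.symm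
  have hB : toMat SimpleData.orbitRows * a.val = toMat SimpleData.orbitRows := by
    refine Matrix.ext fun i j => ?_
    have hrow : ∀ k, toMat SimpleData.orbitRows i k =
        Matrix.vecMul v (rep (wordJ (SimpleData.orbitWords.getD i.val []))).val k := by
      intro k
      have e := List.all_eq_true.1 SimpleData.orbit_ok i.val (List.mem_range.2 i.isLt)
      rw [rep_wordJ, hv, ← JankoFourRep.vecOf_evalRow rowsOf rowsOf_length,
        Nat.eq_of_beq_eq_true e]
      rfl
    have hrow' : toMat SimpleData.orbitRows i =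
        Matrix.vecMul v (rep (wordJ (SimpleData.orbitWords.getD i.val []))).val := funext hrow
    show Matrix.vecMul (toMat SimpleData.orbitRows i) a.val j = _
    rw [hrow', Matrix.vecMul_vecMul, ← Units.val_mul, ← h, Units.val_mul, ← Matrix.vecMul_vecMul,
      hva]
  have hinv : toMat SimpleData.orbitInv * toMat SimpleData.orbitRows = 1 := by
    refine eq_one_symm _ _ ?_
    have hlen : ∀ c : ℕ, (bif Nat.beq c 0 then SimpleData.orbitRows else SimpleData.orbitInv).length = 112 :=
      fun c => by cases (Nat.beq c 0) <;> [exact SimpleData.orbit_inv.2.1; exact SimpleData.orbit_inv.1]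
    have := JankoFourRep.prod_eq_one_of_isOne hlen SimpleData.orbit_inv.2.2
    simp only [List.map_cons, List.map_nil, List.prod_cons, List.prod_nil, mul_one] at this
    exact this
  refine Units.ext ?_
  calc a.val = toMat SimpleData.orbitInv * (toMat SimpleData.orbitRows * a.val) := by
        rw [← mul_assoc, hinv, one_mul]
    _ = 1 := by rw [hB, hinv]
    _ = _ := Units.val_one.symm

theorem eq_top_of_mSub_le {N : Subgroup Cfsg.Spor.J4} [N.Normal] (h : mSub ≤ N) : N = ⊤ := by
  have hx : xJ ∈ N := h (Subgroup.subset_closure (by simp))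
  have hy : yJ ∈ N := h (Subgroup.subset_closure (by simp))
  have hq : ∀ u ∈ N, QuotientGroup.mk' N u = 1 := fun u hu => (QuotientGroup.eq_one_iff u).2 hu
  have ht : tJ ∈ N := by
    have h3 := congrArg (QuotientGroup.mk' N) (rel_eq_one
      (w := (J4.y * ((J4.y * J4.x * (J4.y⁻¹) * J4.x * J4.y * J4.x * (J4.y⁻¹) * J4.x)⁻¹ * J4.t *
        (J4.y * J4.x * (J4.y⁻¹) * J4.x * J4.y * J4.x * (J4.y⁻¹) * J4.x))) ^ 3) (by simp [J4.extra]))
    simp only [map_pow, map_mul, map_inv, map_one, ← show xJ = projJ J4.x from rfl,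
      ← show yJ = projJ J4.y from rfl, ← show tJ = projJ J4.t from rfl, hq _ hx, hq _ hy,
      one_mul, mul_one, inv_one] at h3
    have h2 : (QuotientGroup.mk' N tJ) ^ 2 = 1 := by rw [← map_pow, tJ_sq, map_one]
    refine (QuotientGroup.eq_one_iff tJ).1 ?_
    rw [pow_succ, h2, one_mul] at h3
    exact h3
  rw [eq_top_iff, ← PresentedGroup.closure_range_of, Subgroup.closure_le]
  rintro _ ⟨g, rfl⟩
  cases g
  exacts [hx, hy, ht]

/-- The presented fourth Janko group is simple, given its order and the isomorphism type of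
`⟨x, y⟩`. -/
theorem isSimpleGroup_of_card (hM : Nonempty (mSub ≃* Cfsg.M24))
    (hcard : Nat.card Cfsg.Spor.J4 = 86775571046077562880)
    (hinj : Function.Injective rep) : IsSimpleGroup Cfsg.Spor.J4 := by
  classical
  obtain ⟨eM⟩ := hM
  haveI : Finite Cfsg.Spor.J4 := Nat.finite_of_card_ne_zero (by rw [hcard]; norm_num)
  haveI : IsSimpleGroup Cfsg.M24 := CfsgLib.Mathieu.simple_M24
  haveI : Nontrivial mSub := eM.toEquiv.nontrivial
  haveI hMs : IsSimpleGroup mSub := IsSimpleGroup.isSimpleGroup_of_surjective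
    eM.symm.toMonoidHom eM.symm.surjective
  have hMcard : Nat.card mSub = 244823040 :=
    (Nat.card_congr eM.toEquiv).trans CfsgLib.Mathieu.card_M24
  haveI := Fact.mk (show Nat.Prime 23 by norm_num)
  haveI := Fact.mk (show Nat.Prime 5 by norm_num)
  haveI h31F := Fact.mk (show Nat.Prime 31 by norm_num)
  have hg : orderOf gJ = 23 := orderOf_prime_of_fix gJ_pow (by norm_num) fix_gJ
  have hh : orderOf hJ = 5 := orderOf_prime_of_fix hJ_pow (by norm_num) fix_hJ
  have hz : orderOf zJ = 31 := orderOf_prime_of_fix (d := 2) (hinj (by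
      refine Units.ext ?_
      rw [map_pow, Units.val_pow_eq_pow_val, rep_zJ, map_one, Units.val_one,
        JankoFourRep.pow_eq_one_of_isOne (by decide +kernel) SimpleData.thirtyOne_pow]))
    (by norm_num) fix_zJ
  -- a normal subgroup meeting `mSub` trivially is a 2-group
  have htwo : ∀ N : Subgroup Cfsg.Spor.J4, N.Normal → mSub ⊓ N = ⊥ →
      Nat.card N ∣ 2 ^ 11 := by
    intro N hN hMN
    have hdvd : Nat.card N ∣ 2 ^ 11 * (11 ^ 2 * 29 * 31 * 37 * 43) := by
      obtain ⟨f, hf⟩ : ∃ f : mSub →* Cfsg.Spor.J4 ⧸ N, f = (QuotientGroup.mk' N).comp mSub.subtype :=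
        ⟨_, rfl⟩
      have hfi : Function.Injective f := (injective_iff_map_eq_one f).2 fun m hm => by
        rw [hf] at hm
        have : (m : Cfsg.Spor.J4) ∈ mSub ⊓ N := ⟨m.2, (QuotientGroup.eq_one_iff _).1 hm⟩
        rw [hMN, Subgroup.mem_bot] at this
        exact Subtype.ext this
      obtain ⟨c, hc⟩ := Subgroup.card_dvd_of_injective f hfi
      have e := N.card_eq_card_quotient_mul_card_subgroup
      rw [hcard, hc, hMcard] at e
      exact ⟨c, by
        have : 244823040 * (c * Nat.card N) = 244823040 * (2 ^ 11 * (11 ^ 2 * 29 * 31 * 37 * 43)) := by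
          rw [← mul_assoc, ← e]; norm_num
        rw [mul_comm (Nat.card N) c]
        exact (Nat.eq_of_mul_eq_mul_left (by norm_num) this).symm⟩
    have hodd : ∀ p : ℕ, p = 11 ∨ p = 29 ∨ p = 31 ∨ p = 37 ∨ p = 43 → ¬ p ∣ Nat.card N := by
      intro p hp hpN
      have hpp : p.Prime := by rcases hp with rfl | rfl | rfl | rfl | rfl <;> norm_num
      haveI := Fact.mk hpp
      have hsmall : ∀ R : Subgroup Cfsg.Spor.J4, IsPGroup p R → R ≤ N →
          Nat.card R ∣ p ^ 2 ∧ Nat.card R ^ 2 < Nat.card mSub := by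
        intro R hR hle
        obtain ⟨k, hk⟩ := IsPGroup.iff_card.1 hR
        have h := (hk ▸ (Subgroup.card_dvd_of_le hle).trans hdvd :
          p ^ k ∣ 2 ^ 11 * (11 ^ 2 * 29 * 31 * 37 * 43))
        have h2 : k ≤ 2 := by
          by_contra h3
          have := (pow_dvd_pow p (by omega : 3 ≤ k)).trans h
          rcases hp with rfl | rfl | rfl | rfl | rfl <;> norm_num at this
        refine ⟨hk ▸ pow_dvd_pow p h2, ?_⟩
        rw [hk, hMcard]
        calc (p ^ k) ^ 2 ≤ (p ^ 2) ^ 2 := Nat.pow_le_pow_left (Nat.pow_le_pow_right hpp.pos h2) 2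
          _ < _ := by rcases hp with rfl | rfl | rfl | rfl | rfl <;> norm_num
      have hnot : ∀ q : ℕ, q = 23 ∨ q = 5 → ¬ q ^ 2 ∣ Nat.card Cfsg.Spor.J4 := by
        intro q hq
        rw [hcard]
        rcases hq with rfl | rfl <;> norm_num
      have hordpow : ∀ {u : Cfsg.Spor.J4}, orderOf u = p → rep u ^ p = 1 := fun {u} hu => by
        rw [← map_pow, ← hu, pow_orderOf_eq_one, map_one]
      have hne : ∀ {u : Cfsg.Spor.J4}, orderOf u = p → fixNum (rep u) ≠ 2 ^ 112 := by
        intro u hu e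
        have e1 := eq_one_of_fixNum e
        rw [← map_one rep] at e1
        rw [hinj e1, orderOf_one] at hu
        exact hpp.ne_one hu.symm
      have hrepc : ∀ {u v : Cfsg.Spor.J4}, u * v = v * u → rep u * rep v = rep v * rep u :=
        fun e => by rw [← map_mul, ← map_mul, e]
      -- the argument with an element of order five
      have hfive : ∀ c : Cfsg.Spor.J4, orderOf c = p → c * hJ = hJ * c → fixNum (rep c) = 2 ^ 2 →
          False := by
        intro c hc hcomm hfix
        have h1 := fix_modEq (p := p) (hordpow hc) (hrepc hcomm)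
        have h2 := fix_modEq (p := 5) (b := rep c) (a := rep hJ)
          (by rw [← map_pow, hJ_pow, map_one]) (hrepc hcomm.symm)
        obtain ⟨e, -, he⟩ := bothNum_pow (rep c) (rep hJ)
        rw [bothNum_comm, fix_hJ, he] at h1
        rw [hfix, he] at h2
        have hle : e ≤ 2 := by
          have := bothNum_le (rep c) (rep hJ)
          rw [he, hfix] at this
          exact (Nat.pow_le_pow_iff_right (by norm_num)).1 this
        have := exp_five e hle h2
        subst this
        rcases hp with rfl | rfl | rfl | rfl | rfl <;> revert h1 <;> unfold Nat.ModEq <;> norm_num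
      by_cases h31 : p = 31
      · subst h31
        obtain ⟨c, -, hc, hcomm⟩ := exists_commute (q := 5) hMN hpN hsmall
          (mem_mSub_word (by decide)) hh (hnot 5 (Or.inr rfl))
        have hfac : (Nat.card Cfsg.Spor.J4).factorization 31 = 1 := by
          rw [hcard]
          refine le_antisymm ?_ (hpp.factorization_pos_of_dvd (by norm_num) (by norm_num))
          by_contra h
          exact absurd ((hpp.pow_dvd_iff_le_factorization (by norm_num)).2 (show 2 ≤ _ by omega))
            (by norm_num : ¬ 31 ^ 2 ∣ 86775571046077562880)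
        obtain ⟨k, hk⟩ := MulAction.exists_smul_eq Cfsg.Spor.J4
          (Sylow.ofCard (Subgroup.zpowers zJ) (by rw [Nat.card_zpowers, hz, hfac, pow_one]) : Sylow 31 _)
          (Sylow.ofCard (Subgroup.zpowers c) (by rw [Nat.card_zpowers, hc, hfac, pow_one]) : Sylow 31 _)
        have hmem : k * zJ * k⁻¹ ∈ Subgroup.zpowers c := by
          have h0 : k * zJ * k⁻¹ ∈ (((k • (Sylow.ofCard (Subgroup.zpowers zJ) (by
              rw [Nat.card_zpowers, hz, hfac, pow_one]) : Sylow 31 Cfsg.Spor.J4)) :
                Sylow 31 Cfsg.Spor.J4) : Subgroup Cfsg.Spor.J4) := by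
            rw [Sylow.coe_subgroup_smul]
            exact ⟨zJ, Subgroup.mem_zpowers zJ, rfl⟩
          rw [hk] at h0
          exact h0
        obtain ⟨j, hj⟩ := Subgroup.mem_zpowers_iff.1 hmem
        refine hfive (k * zJ * k⁻¹) ?_ ?_ ?_
        · rw [← hz]; exact (MulAut.conj k).orderOf_eq zJ
        · rw [← hj]; exact ((show Commute c hJ from hcomm).zpow_left j).eq
        · rw [map_mul, map_mul, map_inv, fixNum_conj, fix_zJ]
      · have hp' : p = 11 ∨ p = 29 ∨ p = 37 ∨ p = 43 := by omega
        have hd : ∀ u : Cfsg.Spor.J4, orderOf u = p → u * gJ = gJ * u →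
            p = 11 ∧ fixNum (rep u) = 2 ^ 2 := by
          intro u hu hcomm
          have h1 := fix_modEq (p := p) (hordpow hu) (hrepc hcomm)
          have h2 := fix_modEq (p := 23) (b := rep u) (a := rep gJ)
            (by rw [← map_pow, gJ_pow, map_one]) (hrepc hcomm.symm)
          have h3 := vec_modEq (p := p) (hordpow hu)
          obtain ⟨e, -, he⟩ := bothNum_pow (rep gJ) (rep u)
          obtain ⟨d, hd, hde⟩ := fixNum_pow (rep u)
          rw [fix_gJ, he] at h1
          rw [hde, bothNum_comm, he] at h2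
          rw [hde] at h3
          have hle : e ≤ 2 := by
            have := bothNum_le (rep gJ) (rep u)
            rw [he, fix_gJ] at this
            exact (Nat.pow_le_pow_iff_right (by norm_num)).1 this
          have := exp_twentyThree p hp' e hle h1
          subst this
          rcases exp_fix p hp' d (by omega) h2 h3 with rfl | ⟨e11, rfl⟩
          · exact absurd hde (hne hu)
          · exact ⟨e11, hde⟩
        obtain ⟨c, -, hc, hcomm⟩ := exists_commute (q := 23) hMN hpN hsmall
          (mem_mSub_word (by decide)) hg (hnot 23 (Or.inl rfl))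
        obtain ⟨h11, -⟩ := hd c hc hcomm
        subst h11
        obtain ⟨c', hc'N, hc', hcomm'⟩ := exists_commute (q := 5) hMN hpN hsmall
          (mem_mSub_word (by decide)) hh (hnot 5 (Or.inr rfl))
        -- the fixed space of any element of order `11` of `N`
        have hfix' : fixNum (rep c') = 2 ^ 2 := by
          have hfac : (Nat.card N).factorization 11 ≤ 2 := by
            by_contra h
            have := ((hpp.pow_dvd_iff_le_factorization Nat.card_pos.ne').2
              (show 3 ≤ (Nat.card N).factorization 11 by omega)).trans hdvd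
            norm_num at this
          obtain ⟨P, hP⟩ := (IsPGroup.of_card (G := (Subgroup.zpowers (⟨c', hc'N⟩ : N)))
            (p := 11) (n := 1) (by
              rw [Nat.card_zpowers, ← Subgroup.orderOf_coe, pow_one]; exact hc')).exists_le_sylow
          obtain ⟨R, hR⟩ : ∃ R, R = (P : Subgroup N).map N.subtype := ⟨_, rfl⟩
          obtain ⟨k, hk⟩ : ∃ k : Cfsg.Spor.J4, k * gJ * k⁻¹ ∈ Subgroup.centralizer (R : Set _) := by
            have := exists_cent (q := 23) hMN hsmall P (mem_mSub_word (by decide)) hg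
              (hnot 23 (Or.inl rfl))
            rw [hR]; exact this
          have hcR : c' ∈ R := by
            rw [hR]; exact ⟨⟨c', hc'N⟩, hP (Subgroup.mem_zpowers _), rfl⟩
          have hcm : (k⁻¹ * c' * k) * gJ = gJ * (k⁻¹ * c' * k) := by
            have h := Subgroup.mem_centralizer_iff.1 hk c' hcR
            calc (k⁻¹ * c' * k) * gJ = k⁻¹ * (c' * (k * gJ * k⁻¹)) * k := by group
              _ = _ := by rw [h]; group
          have := (hd (k⁻¹ * c' * k) (by
            rw [← hc']; simpa using (MulAut.conj k⁻¹).orderOf_eq c') hcm).2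
          rw [map_mul, map_mul, map_inv] at this
          rw [← fixNum_conj (rep k)⁻¹ (rep c'), inv_inv]
          exact this
        exact hfive c' hc' hcomm' hfix'
    refine Nat.Coprime.dvd_of_dvd_mul_right ?_ hdvd
    have hco : ∀ p : ℕ, p.Prime → ¬ p ∣ Nat.card N → (Nat.card N).Coprime p := fun p hp h =>
      Nat.coprime_comm.1 (hp.coprime_iff_not_dvd.2 h)
    have h11 := hco 11 (by norm_num) (hodd 11 (by norm_num))
    have h29 := hco 29 (by norm_num) (hodd 29 (by norm_num))
    have h31 := hco 31 (by norm_num) (hodd 31 (by norm_num))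
    have h37 := hco 37 (by norm_num) (hodd 37 (by norm_num))
    have h43 := hco 43 (by norm_num) (hodd 43 (by norm_num))
    exact ((((h11.pow_right 2).mul_right h29).mul_right h31).mul_right h37).mul_right h43
  haveI : Nontrivial Cfsg.Spor.J4 := ⟨⟨gJ, 1, fun e => by simp [e] at hg⟩⟩
  refine ⟨fun N hN => ?_⟩
  by_cases hmeet : mSub ⊓ N = ⊥
  · left
    have h2 := htwo N hN hmeet
    -- an element of order 43 centralises it
    haveI := Fact.mk (show Nat.Prime 43 by norm_num)
    obtain ⟨w, hw⟩ := exists_prime_orderOf_dvd_card' (G := Cfsg.Spor.J4) 43 (by rw [hcard]; norm_num)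
    have hwN : ∀ u ∈ N, w * u = u * w := by
      obtain ⟨σ, hσ⟩ : ∃ σ : MulAut N, σ = MulAut.conjNormal w := ⟨_, rfl⟩
      have hσp : σ ^ 43 = 1 := by rw [hσ, ← map_pow, ← hw, pow_orderOf_eq_one, map_one]
      obtain ⟨F, hF⟩ : ∃ F : Subgroup N, F = σ.toMonoidHom.eqLocus (MonoidHom.id N) := ⟨_, rfl⟩
      have hperm : ((MulEquiv.toEquiv σ : Equiv.Perm N) ^ 43) = 1 := by
        have e : ∀ k : ℕ, ((MulEquiv.toEquiv σ : Equiv.Perm N) ^ k) = (σ ^ k).toEquiv := by
          intro k
          induction k with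
          | zero => rfl
          | succ k ih => rw [pow_succ, ih, pow_succ]; rfl
        rw [e, hσp]; rfl
      have hmod := card_fix_modEq hperm
      have hFcard : Nat.card {x : N // (MulEquiv.toEquiv σ) x = x} = Nat.card F := by
        rw [hF]; rfl
      rw [hFcard] at hmod
      obtain ⟨i, hi, ei⟩ := (Nat.dvd_prime_pow Nat.prime_two).1 h2
      obtain ⟨l, hl, el⟩ := (Nat.dvd_prime_pow Nat.prime_two).1 (F.card_subgroup_dvd_card.trans h2)
      rw [ei, el] at hmod
      have hil : i = l := by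
        have key : ∀ i < 12, ∀ l < 12, 2 ^ i % 43 = 2 ^ l % 43 → i = l := by decide +kernel
        exact key i (by omega) l (by omega) hmod
      have htop : F = ⊤ := Subgroup.eq_top_of_card_eq F (by rw [ei, el, hil])
      intro u hu
      have hmem : (⟨u, hu⟩ : N) ∈ F := htop ▸ Subgroup.mem_top _
      rw [hF] at hmem
      have e := congrArg Subtype.val (show σ ⟨u, hu⟩ = ⟨u, hu⟩ from hmem)
      rw [hσ, MulAut.conjNormal_apply] at e
      exact mul_inv_eq_iff_eq_mul.1 e
    obtain ⟨C, hC⟩ : ∃ C, C = Subgroup.centralizer (N : Set Cfsg.Spor.J4) := ⟨_, rfl⟩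
    haveI hCn : C.Normal := by rw [hC]; infer_instance
    have hwC : w ∈ C := by
      rw [hC]; exact Subgroup.mem_centralizer_iff.2 fun u hu => (hwN u hu).symm
    have hCM : mSub ⊓ C ≠ ⊥ := fun h => by
      have := (C.orderOf_dvd_natCard hwC).trans (htwo C hCn h)
      rw [hw] at this
      norm_num at this
    have hMC : mSub ≤ C := by
      rcases (show (C.subgroupOf mSub).Normal from inferInstance).eq_bot_or_eq_top with e | e
      · refine absurd ?_ hCM
        rw [eq_bot_iff]
        rintro u ⟨hu, huC⟩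
        have : (⟨u, hu⟩ : mSub) ∈ C.subgroupOf mSub := Subgroup.mem_subgroupOf.2 huC
        rw [e, Subgroup.mem_bot] at this
        rw [Subgroup.mem_bot]
        exact congrArg Subtype.val this
      · exact Subgroup.subgroupOf_eq_top.1 e
    have hCtop := eq_top_of_mSub_le hMC
    refine (Subgroup.eq_bot_iff_forall N).2 fun u hu => hinj ?_
    rw [map_one]
    refine eq_one_of_central fun v => ?_
    have hv : v ∈ C := hCtop ▸ Subgroup.mem_top v
    rw [hC] at hv
    rw [← map_mul, ← map_mul, Subgroup.mem_centralizer_iff.1 hv u hu]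
  · right
    refine eq_top_of_mSub_le ?_
    rcases (show (N.subgroupOf mSub).Normal from inferInstance).eq_bot_or_eq_top with e | e
    · refine absurd ?_ hmeet
      rw [eq_bot_iff]
      rintro u ⟨hu, huN⟩
      have : (⟨u, hu⟩ : mSub) ∈ N.subgroupOf mSub := Subgroup.mem_subgroupOf.2 huN
      rw [e, Subgroup.mem_bot] at this
      rw [Subgroup.mem_bot]
      exact congrArg Subtype.val this
    · exact Subgroup.subgroupOf_eq_top.1 e

/-- The representation is faithful, given the order of the group and of its image. -/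
theorem rep_injective (hcard : Nat.card Cfsg.Spor.J4 = 86775571046077562880)
    (hrange : 86775571046077562880 ∣ Nat.card rep.range) : Function.Injective rep := by
  haveI : Finite Cfsg.Spor.J4 := Nat.finite_of_card_ne_zero (by rw [hcard]; norm_num)
  have hle : Nat.card Cfsg.Spor.J4 ≤ Nat.card rep.range := by
    rw [hcard]; exact Nat.le_of_dvd Nat.card_pos hrange
  have hb := (Nat.bijective_iff_surjective_and_card rep.rangeRestrict).2
    ⟨rep.rangeRestrict_surjective,
      le_antisymm hle (Nat.card_le_card_of_surjective _ rep.rangeRestrict_surjective)⟩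
  exact fun a b e => hb.1 (Subtype.ext e)

/-- The presented fourth Janko group is simple of the right order. -/
theorem isJ4_of_card (hM : Nonempty (mSub ≃* Cfsg.M24))
    (hcard : Nat.card Cfsg.Spor.J4 = 86775571046077562880)
    (hrange : 86775571046077562880 ∣ Nat.card rep.range) : Cfsg.IsJ4 Cfsg.Spor.J4 :=
  ⟨isSimpleGroup_of_card hM hcard (rep_injective hcard hrange), hcard⟩

/-- The matrix group of degree `112`. -/
theorem exists_GL_of_card (hM : Nonempty (mSub ≃* Cfsg.M24))
    (hcard : Nat.card Cfsg.Spor.J4 = 86775571046077562880)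
    (hrange : 86775571046077562880 ∣ Nat.card rep.range) :
    ∃ H : Subgroup (GL (Fin 112) (ZMod 2)), Cfsg.IsJ4 H := by
  have hinj := rep_injective hcard hrange
  let e := MonoidHom.ofInjective hinj
  haveI := isSimpleGroup_of_card hM hcard hinj
  haveI : Nontrivial rep.range := e.toEquiv.symm.nontrivial
  exact ⟨rep.range, IsSimpleGroup.isSimpleGroup_of_surjective e.toMonoidHom e.surjective,
    (Nat.card_congr e.toEquiv).symm.trans hcard⟩

end CfsgLib.JankoFour
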