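import Cfsg.Agent.JankoFour.HData.Chains

/-!
The subgroup `⟨x, y, s⟩` of the presented fourth Janko group, `s = (y w⁻¹ t w)³` with
`w = (y x)⁴ y⁻¹ x`: it is the product of `⟨x, y⟩` and an elementary abelian normal subgroup of order
at most `2 ^ 11`.  The only fact used about `⟨x, y⟩` is `HBound.Faithful`: words with the same
permutation of the 24 points are equal.
-/

set_option autoImplicit false

namespace CfsgLib.JankoFour

open scoped Pointwise

local notation "J" => Cfsg.Spor.J4

/-- The subgroup generated by `x`, `y` and `s`. -/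
def HJ : Subgroup J := Subgroup.closure {xJ, yJ, HBound.sJ}

namespace HBound

/-- The word map only depends on the values of the generators. -/
theorem wv_mem_mSub (w : List ℕ) : wv w ∈ mSub := by
  induction w with
  | nil => exact one_mem _
  | cons c w ih =>
    rw [show wv (c :: w) = lv c * wv w by simp [wv]]
    refine mul_mem ?_ ih
    rcases c with _ | _ | c
    · exact Subgroup.subset_closure (Or.inl rfl)
    · exact Subgroup.subset_closure (Or.inr rfl)
    · exact inv_mem (Subgroup.subset_closure (Or.inr rfl))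

theorem mSub_le_normalizer (hf : Faithful) :
    mSub ≤ Subgroup.normalizer (qGroup : Set J) := by
  have hgens : ∀ (g : J), (∀ a ∈ qGens, g⁻¹ * a * g ∈ qGroup) →
      ∀ q ∈ qGroup, g⁻¹ * q * g ∈ qGroup := by
    intro g hg q hq
    induction hq using Subgroup.closure_induction with
    | mem a ha => exact hg a ha
    | one => simp [qGroup.one_mem]
    | mul a b _ _ ha hb =>
      rw [show g⁻¹ * (a * b) * g = g⁻¹ * a * g * (g⁻¹ * b * g) by group]
      exact mul_mem ha hb
    | inv a _ ha =>
      rw [show g⁻¹ * a⁻¹ * g = (g⁻¹ * a * g)⁻¹ by group]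
      exact inv_mem ha
  have hx := hgens xJ fun a ha => by simpa [wv, lv] using qGroup_x hf a ha
  have hy := hgens yJ fun a ha => by simpa [wv, lv] using qGroup_y hf a ha
  have xinv : xJ⁻¹ = xJ := inv_eq_of_mul_eq_one_right (by rw [← pow_two]; exact xJ_sq)
  have y3 : yJ * yJ * yJ = 1 := by rw [← pow_two, ← pow_succ]; exact yJ_cube
  rw [mSub, Subgroup.closure_le]
  rintro g (rfl | rfl)
  · rw [SetLike.mem_coe, Subgroup.mem_normalizer_iff]
    refine fun q => ⟨fun hq => ?_, fun hq => ?_⟩
    · have := hx q hq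
      rwa [xinv] at this ⊢
    · have := hx _ hq
      rwa [show xJ⁻¹ * (xJ * q * xJ⁻¹) * xJ = q by group] at this
  · rw [SetLike.mem_coe, Subgroup.mem_normalizer_iff]
    refine fun q => ⟨fun hq => ?_, fun hq => ?_⟩
    · have := hy _ (hy q hq)
      rwa [show yJ⁻¹ * (yJ⁻¹ * q * yJ) * yJ = (yJ * yJ)⁻¹ * q * (yJ * yJ) by group,
        show yJ * yJ = yJ⁻¹ from eq_inv_of_mul_eq_one_left y3, inv_inv] at this
    · have := hy _ hq
      rwa [show yJ⁻¹ * (yJ * q * yJ⁻¹) * yJ = q by group] at this

theorem qGens_sq (hf : Faithful) : ∀ a ∈ qGens, a * a = 1 := by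
  simp only [qGens, List.forall_mem_cons, List.not_mem_nil, IsEmpty.forall_iff, implies_true,
    and_true, sig_mul_self (sJ_mul_self hf)]

/-- The abelian subgroup has order at most `2 ^ 11`. -/
theorem card_qGroup_le (hf : Faithful) : Finite qGroup ∧ Nat.card qGroup ≤ 2 ^ 11 :=
  card_closure_involutions qGens (qGens_comm hf) (qGens_sq hf)

/-- The abelian subgroup is commutative. -/
theorem qGroup_comm (hf : Faithful) : ∀ a ∈ qGroup, ∀ b ∈ qGroup, a * b = b * a := by
  have h1 : ∀ a ∈ qGens, ∀ b ∈ qGroup, a * b = b * a := by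
    intro a ha b hb
    induction hb using Subgroup.closure_induction with
    | mem c hc => exact qGens_comm hf a ha c hc
    | one => simp
    | mul c d _ _ hc hd => exact (Commute.mul_right hc hd).eq
    | inv c _ hc => exact (Commute.inv_right hc).eq
  intro a ha b hb
  induction ha using Subgroup.closure_induction with
  | mem c hc => exact h1 c hc b hb
  | one => simp
  | mul c d _ _ hc hd => exact (Commute.mul_left hc hd).eq
  | inv c _ hc => exact (Commute.inv_left hc).eq

/-- The abelian subgroup has exponent two. -/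
theorem qGroup_sq (hf : Faithful) : ∀ a ∈ qGroup, a * a = 1 := by
  intro a ha
  induction ha using Subgroup.closure_induction with
  | mem c hc => exact qGens_sq hf c hc
  | one => simp
  | mul c d hc hd hc2 hd2 =>
    rw [show c * d * (c * d) = c * (d * c) * d by group, qGroup_comm hf d hd c hc,
      show c * (c * d) * d = (c * c) * (d * d) by group, hc2, hd2, one_mul]
  | inv c hc hc2 => rw [← mul_inv_rev, hc2, inv_one]

theorem qGroup_le_HJ : qGroup ≤ HJ := by
  rw [qGroup, Subgroup.closure_le]
  intro a ha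
  have hs : sJ ∈ HJ := Subgroup.subset_closure (Or.inr (Or.inr rfl))
  have hm : ∀ w, wv w ∈ HJ := fun w =>
    Subgroup.closure_mono (by simp [Set.insert_subset_iff]) (wv_mem_mSub w)
  suffices ∀ a ∈ qGens, a ∈ HJ from this a ha
  simp only [qGens, List.forall_mem_cons, List.not_mem_nil, IsEmpty.forall_iff, implies_true,
    and_true]
  refine ⟨?_, ?_, ?_, ?_, ?_, ?_, ?_, ?_, ?_, ?_, ?_⟩ <;>
    exact mul_mem (mul_mem (inv_mem (hm _)) hs) (hm _)

/-- `⟨x, y⟩` normalises the abelian subgroup and together they make `HJ`. -/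
theorem HJ_subset (hf : Faithful) : (HJ : Set J) ⊆ (mSub : Set J) * (qGroup : Set J) := by
  rw [← Subgroup.coe_mul_of_left_le_normalizer_right _ _ (mSub_le_normalizer hf),
    SetLike.coe_subset_coe, HJ, Subgroup.closure_le]
  rintro g (rfl | rfl | rfl)
  · exact Subgroup.mem_sup_left (Subgroup.subset_closure (Or.inl rfl))
  · exact Subgroup.mem_sup_left (Subgroup.subset_closure (Or.inr rfl))
  · exact Subgroup.mem_sup_right sJ_mem_qGroup

theorem HJ_le_normalizer (hf : Faithful) : HJ ≤ Subgroup.normalizer (qGroup : Set J) := by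
  rw [HJ, Subgroup.closure_le]
  rintro g (rfl | rfl | rfl)
  · exact mSub_le_normalizer hf (Subgroup.subset_closure (Or.inl rfl))
  · exact mSub_le_normalizer hf (Subgroup.subset_closure (Or.inr rfl))
  · exact Subgroup.le_normalizer sJ_mem_qGroup

end HBound

/-- The subgroup `⟨x, y, s⟩` is finite when `⟨x, y⟩` is. -/
theorem finite_HJ (hf : HBound.Faithful) [Finite mSub] : Finite HJ := by
  have := (HBound.card_qGroup_le hf).1
  exact ((Set.toFinite (mSub : Set J)).mul (Set.toFinite (HBound.qGroup : Set J))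
    |>.subset (HBound.HJ_subset hf)).to_subtype

/-- The subgroup `⟨x, y, s⟩` has order at most `2 ^ 11` times that of `⟨x, y⟩`. -/
theorem card_HJ_le_mul (hf : HBound.Faithful) [Finite mSub] :
    Nat.card HJ ≤ Nat.card mSub * 2 ^ 11 := by
  have := (HBound.card_qGroup_le hf).1
  have hfin := (Set.toFinite (mSub : Set J)).mul (Set.toFinite (HBound.qGroup : Set J))
  calc Nat.card HJ = (HJ : Set J).ncard := Nat.card_coe_set_eq _
    _ ≤ ((mSub : Set J) * (HBound.qGroup : Set J)).ncard :=
      Set.ncard_le_ncard (HBound.HJ_subset hf) hfin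
    _ ≤ Nat.card (mSub : Set J) * Nat.card (HBound.qGroup : Set J) := by
      rw [← Nat.card_coe_set_eq]
      exact Set.natCard_mul_le
    _ ≤ Nat.card mSub * 2 ^ 11 := Nat.mul_le_mul le_rfl (HBound.card_qGroup_le hf).2

/-- The bound `2 ^ 11 * |M₂₄|` for `⟨x, y, s⟩`. -/
theorem card_HJ_le (hf : HBound.Faithful) [Finite mSub] (hM : Nat.card mSub ≤ 244823040) :
    Nat.card HJ ≤ 501397585920 :=
  (card_HJ_le_mul hf).trans ((Nat.mul_le_mul_right _ hM).trans (by norm_num))

end CfsgLib.JankoFour
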