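import Cfsg.Agent.JankoFour.LowerTable

/-! Kernel checks: the rows of the witnesses are the values of their words. -/

set_option autoImplicit false
set_option maxRecDepth 100000

namespace CfsgLib.JankoFour

theorem table_ok_mid : ([10, 11, 12, 13, 14].all fun c => sameProd lowTab [c] (lowWord c)) = true := by
  decide +kernel

end CfsgLib.JankoFour
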