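import Cfsg.Agent.JankoFour.LowerTable

/-! Kernel checks: the relations among the witnesses and the moved vectors. -/

set_option autoImplicit false
set_option maxRecDepth 100000

namespace CfsgLib.JankoFour

open CfsgLib.JankoFourRep

/-- The vectors of the witnesses. -/
def vecChecks : Bool :=
  ((List.range 11).all fun i =>
    ((List.range i).all fun j =>
      Nat.beq (evalRow lowTab [j + 4] (sepVec.getD i 0)) (sepVec.getD i 0)) &&
    (evalRow lowTab [i + 4] (sepVec.getD i 0) != sepVec.getD i 0) &&
    Nat.blt (evalRow lowTab [i + 4] (sepVec.getD i 0)) lane && Nat.blt (sepVec.getD i 0) lane) &&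
  (evalRow lowTab [0] 2 != 2) &&
  (evalRow lowTab [15] movedC != movedC) &&
  periodWords.all fun e =>
    Nat.beq (evalRow lowTab (List.replicate e.1 e.2).flatten 1) 1 && (evalRow lowTab e.2 1 != 1)

/-- The equations among the witnesses. -/
def eqChecks : List (List ℕ × List ℕ) :=
  ((List.range 11).map fun i => ([i + 4, i + 4], [])) ++
  ((List.range 11).flatMap fun i => (List.range i).map fun j => ([j + 4, i + 4], [i + 4, j + 4])) ++
  ((List.range 11).map fun i => ([0, i + 4], qLetters (conjX.getD i []) ++ [0])) ++
  ((List.range 11).map fun i => ([1, i + 4], qLetters (conjY.getD i []) ++ [1])) ++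
  [(List.replicate 11 17, []), ([16, 17], [15, 17, 16]), ([15, 17], [17, 15]), ([15, 16], [16, 15])]

theorem vecChecks_ok : vecChecks = true := by decide +kernel

theorem eqChecks_ok : (eqChecks.all fun e => sameProd lowTab e.1 e.2) = true := by decide +kernel

end CfsgLib.JankoFour
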