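import Cfsg.Agent.JankoFour.LowerShape
import Cfsg.Agent.JankoFour.LowerCheckA
import Cfsg.Agent.JankoFour.LowerCheckB
import Cfsg.Agent.JankoFour.LowerCheckC
import Cfsg.Agent.JankoFour.LowerCheckD
import Cfsg.Agent.JankoFourRep.Rep

/-!
# The order of the matrix group of degree 112 is divisible by `86775571046077562880`
-/

set_option autoImplicit false
set_option linter.style.haveILetI false
set_option maxRecDepth 100000

namespace CfsgLib.JankoFour

open CfsgLib.JankoFourRep Cfsg.Spor Matrix

/-- Row vectors, with matrices acting through their inverses. -/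
def RowVec : Type := Fin 112 → ZMod 2

instance : MulAction (GL (Fin 112) (ZMod 2)) RowVec where
  smul g v := (Matrix.vecMul (v : Fin 112 → ZMod 2) (g⁻¹).val : Fin 112 → ZMod 2)
  one_smul v :=
    (congrArg (fun A : Mat => Matrix.vecMul (v : Fin 112 → ZMod 2) A)
      (show ((1 : GL (Fin 112) (ZMod 2))⁻¹).val = 1 by rw [inv_one, Units.val_one])).trans
      (Matrix.vecMul_one _)
  mul_smul g h v :=
    (congrArg (fun A : Mat => Matrix.vecMul (v : Fin 112 → ZMod 2) A)
      (show ((g * h)⁻¹).val = (h⁻¹).val * (g⁻¹).val by rw [_root_.mul_inv_rev, Units.val_mul])).trans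
      (Matrix.vecMul_vecMul _ _ _).symm

theorem smul_eq_self_iff (g : GL (Fin 112) (ZMod 2)) (v : RowVec) :
    g • v = v ↔ Matrix.vecMul (v : Fin 112 → ZMod 2) g.val = v := by
  have h : ((g⁻¹)⁻¹).val = g.val := by rw [inv_inv]
  rw [← h]
  exact eq_inv_smul_iff.symm.trans eq_comm

theorem vecOf_inj {a b : ℕ} (ha : a < 2 ^ 112) (hb : b < 2 ^ 112) (h : vecOf a = vecOf b) : a = b := by
  refine Nat.eq_of_testBit_eq fun i => ?_
  by_cases hi : i < 112
  · have := congrFun h ⟨i, hi⟩
    simp only [vecOf, bit] at this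
    revert this
    cases a.testBit i <;> cases b.testBit i <;> decide
  · rw [Nat.testBit_eq_false_of_lt (ha.trans_le (Nat.pow_le_pow_right (by norm_num) (by omega))),
      Nat.testBit_eq_false_of_lt (hb.trans_le (Nat.pow_le_pow_right (by norm_num) (by omega)))]

/-- A letter as an element of the presented group. -/
def letL : ℕ → J4
  | 0 => xJ
  | 1 => yJ
  | 2 => yJ⁻¹
  | _ => tJ

/-- A letter of the extended alphabet as an element of the presented group. -/
def tabJ (c : ℕ) : J4 := ((lowWord c).map letL).prod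

theorem rep_xL : rep xJ = genGL J4.Gen.x := rep_of J4.Gen.x

theorem rep_yL : rep yJ = genGL J4.Gen.y := rep_of J4.Gen.y

theorem rep_tL : rep tJ = genGL J4.Gen.t := rep_of J4.Gen.t

theorem rep_letL : ∀ c, (rep (letL c)).val = toMat (rowsOf c)
  | 0 => by rw [letL, rep_xL]; rfl
  | 1 => by rw [letL, rep_yL]; rfl
  | 2 => by rw [letL, map_inv, rep_yL]; rfl
  | n + 3 => by show (rep tJ).val = _; rw [rep_tL]; rfl

theorem lowWord_lt : ∀ c, c < 18 → ∀ a ∈ lowWord c, a < 4 := by decide +kernel

theorem rep_tabJ {c : ℕ} (hc : c < 18) : (rep (tabJ c)).val = toMat (lowTab c) := by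
  have hw : ((lowWord c).map fun a => toMat (lowTab a)).prod = toMat (lowTab c) := by
    by_cases h4 : c < 4
    · rw [lowWord, show Nat.blt c 4 = true by simp [Nat.blt_eq, h4]]
      simp
    · have h := prod_eq_of_sameProd lowTab_good (v := [c]) (w := lowWord c) (by
        have hA := List.all_eq_true.1 table_ok_left c
        have hB := List.all_eq_true.1 table_ok_mid c
        have hC := List.all_eq_true.1 table_ok_right c
        simp only [List.mem_cons, List.not_mem_nil, or_false] at hA hB hC
        obtain h | h | h : (c = 4 ∨ c = 5 ∨ c = 6 ∨ c = 7 ∨ c = 8 ∨ c = 9) ∨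
            (c = 10 ∨ c = 11 ∨ c = 12 ∨ c = 13 ∨ c = 14) ∨ (c = 15 ∨ c = 16 ∨ c = 17) := by omega
        exacts [hA h, hB h, hC h])
      simpa using h.symm
  rw [tabJ, map_list_prod, ← Units.coeHom_apply, map_list_prod, List.map_map, List.map_map, ← hw]
  refine congrArg List.prod (List.map_congr_left fun a ha => ?_)
  show (rep (letL a)).val = _
  rw [rep_letL, lowTab, show Nat.blt a 4 = true by simp [Nat.blt_eq, lowWord_lt c hc a ha], cond_true]

theorem rep_word {w : List ℕ} (hw : ∀ c ∈ w, c < 18) :
    (rep ((w.map tabJ).prod)).val = (w.map fun c => toMat (lowTab c)).prod := by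
  rw [map_list_prod, ← Units.coeHom_apply, map_list_prod, List.map_map, List.map_map]
  exact congrArg List.prod (List.map_congr_left fun a ha => rep_tabJ (hw a ha))

theorem eqChecks_lt :
    ∀ e ∈ eqChecks, (∀ c ∈ e.1, c < 18) ∧ ∀ c ∈ e.2, c < 18 := by decide +kernel

theorem rep_eq {v w : List ℕ} (h : (v, w) ∈ eqChecks) :
    rep ((v.map tabJ).prod) = rep ((w.map tabJ).prod) := Units.ext (by
  rw [rep_word (eqChecks_lt _ h).1, rep_word (eqChecks_lt _ h).2]
  exact prod_eq_of_sameProd lowTab_good (List.all_eq_true.1 eqChecks_ok (v, w) h))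

theorem vecMul_rep {w : List ℕ} (hw : ∀ c ∈ w, c < 18) (a : ℕ) :
    Matrix.vecMul (vecOf a) (rep ((w.map tabJ).prod)).val = vecOf (evalRow lowTab w a) := by
  rw [rep_word hw, vecOf_evalRow lowTab (fun c => (lowTab_good c).1)]

/-- A number as a row vector. -/
def rvec (a : ℕ) : RowVec := vecOf a

theorem fix_of {w : List ℕ} (hw : ∀ c ∈ w, c < 18) {a : ℕ} (h : evalRow lowTab w a = a) :
    rep ((w.map tabJ).prod) • rvec a = rvec a :=
  (smul_eq_self_iff _ _).2 ((vecMul_rep hw a).trans (congrArg vecOf h))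

theorem move_of {w : List ℕ} (hw : ∀ c ∈ w, c < 18) {a : ℕ} (ha : a < 2 ^ 112)
    (hb : evalRow lowTab w a < 2 ^ 112) (h : evalRow lowTab w a ≠ a) :
    rep ((w.map tabJ).prod) • rvec a ≠ rvec a := fun e =>
  h (vecOf_inj hb ha ((vecMul_rep hw a).symm.trans ((smul_eq_self_iff _ _).1 e)))

theorem bounds_ok : ((List.range 11).all fun i =>
      Nat.blt (sepVec.getD i 0) (2 ^ 112) &&
        Nat.blt (evalRow lowTab [i + 4] (sepVec.getD i 0)) (2 ^ 112)) = true ∧
    evalRow lowTab [0] 2 < 2 ^ 112 ∧ movedC < 2 ^ 112 ∧ evalRow lowTab [15] movedC < 2 ^ 112 ∧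
    (periodWords.all fun e => Nat.blt (evalRow lowTab e.2 1) (2 ^ 112)) = true ∧
    (periodWords.all fun e => e.2.all fun c => Nat.blt c 4) = true ∧
    periodWords.map Prod.fst = [29, 31, 37, 43] := by
  decide +kernel

theorem eqChecks_tail (e : List ℕ × List ℕ)
    (he : e ∈ [(List.replicate 11 17, []), ([16, 17], [15, 17, 16]), ([15, 17], [17, 15]),
      ([15, 16], [16, 15])]) : e ∈ eqChecks := by
  unfold eqChecks
  exact List.mem_append_right _ he

theorem tabJ_zero : tabJ 0 = xJ := by
  show [xJ].prod = xJ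
  simp

theorem tabJ_one : tabJ 1 = yJ := by
  show [yJ].prod = yJ
  simp

theorem rep_conj {g : J4} {c : ℕ} (hc : tabJ c = g) (i : Fin 11) (l : List ℕ) (hl : ∀ a ∈ l, a < 11)
    (h : ([c, i.val + 4], qLetters l ++ [c]) ∈ eqChecks) :
    ∃ l' : List (Fin 11), rep g * rep (tabJ (i.val + 4)) =
      (l'.map fun j => rep (tabJ (j.val + 4))).prod * rep g := by
  refine ⟨l.attach.map fun a => ⟨a.1, hl a.1 a.2⟩, ?_⟩
  have e := rep_eq h
  rw [qLetters, List.map_append, List.map_map, List.prod_append, List.map_cons, List.map_cons,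
    List.map_nil, List.map_cons, List.map_nil, List.prod_cons, List.prod_cons, List.prod_nil, mul_one,
    map_mul, map_mul, hc, map_list_prod, List.map_map] at e
  rw [e]
  simp [Function.comp_def, List.attach_map_val]

theorem eleven_ok : ∃ y b C : GL (Fin 112) (ZMod 2), y ∈ rep.range ∧ b ∈ rep.range ∧ C ∈ rep.range ∧
    b * y = C * y * b ∧ y ^ 11 = 1 ∧ Commute C y ∧ Commute C b ∧ C ≠ 1 := by
  refine ⟨rep (tabJ 17), rep (tabJ 16), rep (tabJ 15), ⟨_, rfl⟩, ⟨_, rfl⟩, ⟨_, rfl⟩, ?_, ?_, ?_,
    ?_, ?_⟩
  · have h := rep_eq (eqChecks_tail ([16, 17], [15, 17, 16]) (by simp))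
    simpa only [List.map_cons, List.map_nil, List.prod_cons, List.prod_nil, mul_one, map_mul,
      ← mul_assoc] using h
  · have h := rep_eq (eqChecks_tail (List.replicate 11 17, []) (List.mem_cons_self))
    rw [List.map_replicate, List.prod_replicate, map_pow, List.map_nil, List.prod_nil, map_one] at h
    exact h
  · have h := rep_eq (eqChecks_tail ([15, 17], [17, 15]) (by simp))
    simpa only [List.map_cons, List.map_nil, List.prod_cons, List.prod_nil, mul_one, map_mul,
      commute_iff_eq] using h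
  · have h := rep_eq (eqChecks_tail ([15, 16], [16, 15]) (by simp))
    simpa only [List.map_cons, List.map_nil, List.prod_cons, List.prod_nil, mul_one, map_mul,
      commute_iff_eq] using h
  · intro e
    have hv := vecChecks_ok
    simp only [vecChecks, Bool.and_eq_true, bne_iff_ne] at hv
    refine move_of (w := [15]) (by simp) bounds_ok.2.2.1 bounds_ok.2.2.2.1 hv.1.2 ?_
    rw [List.map_cons, List.map_nil, List.prod_cons, List.prod_nil, mul_one, e, one_smul]

/-- The witnesses. -/
noncomputable def lowerWitness : LowerWitness rep RowVec where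
  q i := tabJ (i.val + 4)
  sep i := rvec (sepVec.getD i.val 0)
  q_sq i := by
    have := rep_eq (v := [i.val + 4, i.val + 4]) (w := []) (by
      simp only [eqChecks, List.mem_append, List.mem_map, List.mem_range]
      exact Or.inl (Or.inl (Or.inl (Or.inl ⟨i.val, i.isLt, rfl⟩))))
    simpa using this
  q_comm i j h := by
    have := rep_eq (v := [j.val + 4, i.val + 4]) (w := [i.val + 4, j.val + 4]) (by
      simp only [eqChecks, List.mem_append, List.mem_flatMap, List.mem_map, List.mem_range]
      exact Or.inl (Or.inl (Or.inl (Or.inr ⟨i.val, i.isLt, j.val, h, rfl⟩))))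
    simpa [commute_iff_eq] using this
  sep_fix i j h := by
    have hv := vecChecks_ok
    simp only [vecChecks, Bool.and_eq_true, List.all_eq_true, List.mem_range] at hv
    have := Nat.eq_of_beq_eq_true ((hv.1.1.1 i.val i.isLt).1.1.1 j.val h)
    simpa using fix_of (w := [j.val + 4]) (by simp; omega) this
  sep_move i := by
    have hv := vecChecks_ok
    simp only [vecChecks, Bool.and_eq_true, List.all_eq_true, List.mem_range, bne_iff_ne] at hv
    have hb := List.all_eq_true.1 bounds_ok.1 i.val (List.mem_range.2 i.isLt)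
    simp only [Bool.and_eq_true, Nat.blt_eq] at hb
    simpa using move_of (w := [i.val + 4]) (by simp; omega) hb.1 hb.2 (hv.1.1.1 i.val i.isLt).1.1.2
  q_x i := by
    refine rep_conj tabJ_zero i (conjX.getD i.val []) ?_ ?_
    · exact (by decide +kernel : ∀ i : Fin 11, ∀ a ∈ conjX.getD i.val [], a < 11) i
    · simp only [eqChecks, List.mem_append, List.mem_map, List.mem_range]
      exact Or.inl (Or.inl (Or.inr ⟨i.val, i.isLt, rfl⟩))
  q_y i := by
    refine rep_conj tabJ_one i (conjY.getD i.val []) ?_ ?_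
    · exact (by decide +kernel : ∀ i : Fin 11, ∀ a ∈ conjY.getD i.val [], a < 11) i
    · simp only [eqChecks, List.mem_append, List.mem_map, List.mem_range]
      exact Or.inl (Or.inr ⟨i.val, i.isLt, rfl⟩)
  moved := by
    have hv := vecChecks_ok
    simp only [vecChecks, Bool.and_eq_true, bne_iff_ne] at hv
    refine ⟨rvec 2, ?_⟩
    simpa [tabJ_zero] using move_of (w := [0]) (by simp) (by norm_num) bounds_ok.2.1 hv.1.1.2
  period p hp := by
    have hv := vecChecks_ok
    simp only [vecChecks, Bool.and_eq_true, List.all_eq_true, bne_iff_ne] at hv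
    rw [← bounds_ok.2.2.2.2.2.2, List.mem_map] at hp
    obtain ⟨e, he, rfl⟩ := hp
    obtain ⟨h1, h2⟩ := hv.2 e he
    have hlt : ∀ c ∈ e.2, c < 18 := fun c hc => by
      have := List.all_eq_true.1 (List.all_eq_true.1 bounds_ok.2.2.2.2.2.1 e he) c hc
      simp only [Nat.blt_eq] at this
      omega
    have hb := List.all_eq_true.1 bounds_ok.2.2.2.2.1 e he
    simp only [Nat.blt_eq] at hb
    refine ⟨rep ((e.2.map tabJ).prod), rvec 1, ⟨_, rfl⟩, ?_, move_of hlt (by norm_num) hb h2⟩
    have := fix_of (w := (List.replicate e.1 e.2).flatten) (fun c hc => by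
      obtain ⟨l, hl, hcl⟩ := List.mem_flatten.1 hc
      exact hlt c (List.eq_of_mem_replicate hl ▸ hcl)) (Nat.eq_of_beq_eq_true h1)
    simpa [List.map_flatten, List.prod_flatten, List.map_replicate, List.prod_replicate] using this
  eleven := eleven_ok

/-- The lower bound, given the isomorphism type of the subgroup generated by `x` and `y`. -/
theorem card_range_rep_dvd_of (e : Nonempty (mSub ≃* Cfsg.M24)) :
    86775571046077562880 ∣ Nat.card rep.range :=
  lowerWitness.card_dvd e

end CfsgLib.JankoFour
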