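import Cfsg.Agent.JankoFour.Packed
import Cfsg.Agent.JankoFour.LowerData
import Cfsg.Agent.JankoFourRep.Letters

/-! The letters `0, 1, 2, 3` of the representation followed by the witnesses `4, …, 17`. -/

set_option autoImplicit false

namespace CfsgLib.JankoFour

open CfsgLib.JankoFourRep

/-- The rows of all letters. -/
def lowTab (c : ℕ) : List ℕ :=
  bif Nat.blt c 4 then rowsOf c else lowRows.getD (c - 4) rowsX

/-- The word of a letter. -/
def lowWord (c : ℕ) : List ℕ :=
  bif Nat.blt c 4 then [c] else lowWords.getD (c - 4) [0]

/-- The letters of a list of witnesses. -/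
def qLetters (l : List ℕ) : List ℕ := l.map (· + 4)

theorem lowRows_good : lowRows.all (fun L => (L.length == 112) && L.all fun a => Nat.blt a lane) = true ∧
    ([rowsX, rowsY, rowsYInv, rowsT].all fun L =>
      (L.length == 112) && L.all fun a => Nat.blt a lane) = true := by
  decide +kernel

theorem lowTab_good : Good lowTab := by
  have key : ∀ L : List ℕ, ((L.length == 112) && L.all fun a => Nat.blt a lane) = true →
      L.length = 112 ∧ ∀ a ∈ L, a < lane := fun L hL => by
    rw [Bool.and_eq_true, beq_iff_eq, List.all_eq_true] at hL
    exact ⟨hL.1, fun a ha => by simpa [Nat.blt_eq] using hL.2 a ha⟩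
  have hb := List.all_eq_true.1 lowRows_good.2
  have hx := key _ (hb rowsX (by simp))
  intro c
  refine key _ ?_
  rw [lowTab]
  cases h : Nat.blt c 4
  · simp only [cond_false, List.getD_eq_getElem?_getD]
    cases h' : lowRows[c - 4]? with
    | none => exact hb rowsX (by simp)
    | some L => exact List.all_eq_true.1 lowRows_good.1 L (List.mem_of_getElem? h')
  · simp only [cond_true]
    match c, h with
    | 0, _ => exact hb rowsX (by simp)
    | 1, _ => exact hb rowsY (by simp)
    | 2, _ => exact hb rowsYInv (by simp)
    | 3, _ => exact hb rowsT (by simp)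
    | n + 4, h => simp [Nat.blt_eq] at h

end CfsgLib.JankoFour
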