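import Cfsg.Agent.JankoFour.HWords

/-!
The element `s = (y w⁻¹ t w)³` of the presented fourth Janko group and its conjugates `σ`, together
with the elementary lemmas used by the generated derivations.
-/

set_option autoImplicit false

namespace CfsgLib.JankoFour.HBound

open CfsgLib.JankoFour

local notation "J" => Cfsg.Spor.J4

section General

variable {G : Type*} [Group G]

theorem re2 {a b c : G} (h : a * b = c) (r : G) : a * (b * r) = c * r := by rw [← mul_assoc, h]

theorem re22 {a b c d : G} (h : a * b = c * d) (r : G) : a * (b * r) = c * (d * r) := by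
  rw [← mul_assoc, h, mul_assoc]

theorem re23 {a b c d e : G} (h : a * b = c * d * e) (r : G) :
    a * (b * r) = c * (d * (e * r)) := by
  rw [← mul_assoc, h, mul_assoc, mul_assoc]

theorem comm_of_mul {a b c : G} (ha : a * a = 1) (hb : b * b = 1) (hc : c * c = 1)
    (h : a * b = c) : a * b = b * a := by
  calc a * b = (a * b)⁻¹ := by rw [h, inv_eq_of_mul_eq_one_right hc]
    _ = b * a := by
      rw [mul_inv_rev, inv_eq_of_mul_eq_one_right ha, inv_eq_of_mul_eq_one_right hb]

theorem triangle {A B C : G} (a2 : A * A = 1) (b2 : B * B = 1) (c2 : C * C = 1)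
    (hAB : A * B = C) {i j k : ℕ} (hi : i < 3) (hj : j < 3) (hk : k < 3) (hij : Nat.beq i j = false)
    (hik : Nat.beq i k = false) (hjk : Nat.beq j k = false) :
    [A, B, C].getD i 1 * [A, B, C].getD j 1 = [A, B, C].getD k 1 := by
  have hBA : B * A = C := (comm_of_mul a2 b2 c2 hAB).symm.trans hAB
  have hAC : A * C = B := by rw [← hAB, ← mul_assoc, a2, one_mul]
  have hCB : C * B = A := by rw [← hAB, mul_assoc, b2, mul_one]
  have hCA : C * A = B := (comm_of_mul a2 c2 b2 hAC).symm.trans hAC
  have hBC : B * C = A := (comm_of_mul c2 b2 a2 hCB).symm.trans hCB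
  interval_cases i <;> interval_cases j <;> interval_cases k <;> simp_all

theorem grid {a b c d p q u v w : G}
    (hab : a * b = p) (hcd : c * d = q) (hac : a * c = u) (hbd : b * d = v)
    (h1 : p * q = w) (h2 : u * v = w) : b * c = c * b := by
  have : a * (b * c) * d = a * (c * b) * d := by
    calc a * (b * c) * d = p * q := by rw [← hab, ← hcd]; group
      _ = u * v := h1.trans h2.symm
      _ = a * (c * b) * d := by rw [← hac, ← hbd]; group
  exact mul_left_cancel (mul_right_cancel this)

/-- The products of sublists. -/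
def subProds : List G → Set G
  | [] => {1}
  | a :: l => subProds l ∪ (fun x => a * x) '' subProds l

theorem one_mem_subProds : ∀ l : List G, (1 : G) ∈ subProds l
  | [] => rfl
  | _ :: l => Or.inl (one_mem_subProds l)

theorem subProds_finite : ∀ l : List G, (subProds l).Finite ∧ (subProds l).ncard ≤ 2 ^ l.length
  | [] => ⟨Set.finite_singleton 1, by simp [subProds]⟩
  | a :: l => by
    obtain ⟨hf, hc⟩ := subProds_finite l
    refine ⟨hf.union (hf.image _), (Set.ncard_union_le _ _).trans ?_⟩
    have := Set.ncard_image_le (f := fun x => a * x) hf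
    rw [List.length_cons, pow_succ]
    omega

theorem mul_mem_subProds {l : List G} (hc : ∀ a ∈ l, ∀ b ∈ l, a * b = b * a)
    (h2 : ∀ a ∈ l, a * a = 1) : ∀ g ∈ l, ∀ x ∈ subProds l, g * x ∈ subProds l := by
  induction l with
  | nil => intro g hg; exact absurd hg List.not_mem_nil
  | cons a l ih =>
    have ih' := ih (fun x hx y hy => hc x (List.mem_cons_of_mem _ hx) y (List.mem_cons_of_mem _ hy))
      (fun x hx => h2 x (List.mem_cons_of_mem _ hx))
    intro g hg x hx
    rcases List.mem_cons.1 hg with rfl | hg'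
    · rcases hx with hx | ⟨y, hy, rfl⟩
      · exact Or.inr ⟨x, hx, rfl⟩
      · refine Or.inl ?_
        show g * (g * y) ∈ subProds l
        rwa [← mul_assoc, h2 g List.mem_cons_self, one_mul]
    · rcases hx with hx | ⟨y, hy, rfl⟩
      · exact Or.inl (ih' g hg' x hx)
      · refine Or.inr ⟨g * y, ih' g hg' y hy, ?_⟩
        show a * (g * y) = g * (a * y)
        rw [← mul_assoc, hc a List.mem_cons_self g hg, mul_assoc]

theorem closure_subset_subProds (l : List G) (hc : ∀ a ∈ l, ∀ b ∈ l, a * b = b * a)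
    (h2 : ∀ a ∈ l, a * a = 1) : (Subgroup.closure {x | x ∈ l} : Set G) ⊆ subProds l := by
  intro x hx
  induction hx using Subgroup.closure_induction_left with
  | one => exact one_mem_subProds l
  | mul_left g hg y _ ih => exact mul_mem_subProds hc h2 g hg y ih
  | inv_mul_cancel g hg y _ ih =>
    rw [inv_eq_of_mul_eq_one_right (h2 g hg)]
    exact mul_mem_subProds hc h2 g hg y ih

/-- Commuting involutions generate a group of order at most a power of two. -/
theorem card_closure_involutions (l : List G) (hc : ∀ a ∈ l, ∀ b ∈ l, a * b = b * a)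
    (h2 : ∀ a ∈ l, a * a = 1) :
    Finite (Subgroup.closure {x | x ∈ l}) ∧
      Nat.card (Subgroup.closure {x | x ∈ l}) ≤ 2 ^ l.length := by
  have hf := (subProds_finite l).1.subset (closure_subset_subProds l hc h2)
  refine ⟨hf.to_subtype, ?_⟩
  rw [show Nat.card (Subgroup.closure {x | x ∈ l})
    = (Subgroup.closure {x | x ∈ l} : Set G).ncard from Nat.card_coe_set_eq _]
  exact (Set.ncard_le_ncard (closure_subset_subProds l hc h2) (subProds_finite l).1).trans
    (subProds_finite l).2

end General

/-- The word `(y x)⁴ y⁻¹ x`. -/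
def sW : List ℕ := [1, 0, 1, 0, 1, 0, 1, 0, 2, 0]

/-- The element `(y w⁻¹ t w)³`. -/
def sJ : J := (yJ * (wv sW)⁻¹ * tJ * wv sW) ^ 3

/-- A conjugate of `sJ`. -/
def sig (w : List ℕ) : J := (wv w)⁻¹ * sJ * wv w

theorem sJ_eq : sJ = tau (sW ++ [1, 1]) * (tau (sW ++ [1]) * (tau sW * 1)) := by
  have hy : yJ * yJ * yJ = 1 := by rw [← pow_two, ← pow_succ]; exact yJ_cube
  obtain ⟨T, hT⟩ : ∃ T, tau sW = T := ⟨_, rfl⟩
  have hs : sJ = (yJ * T) ^ 3 := by rw [sJ, ← hT, tau]; group
  rw [tau_append, tau_append, show wv [1, 1] = yJ * yJ by simp [wv, lv],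
    show wv [1] = yJ by simp [wv, lv], hT, hs, mul_one]
  calc (yJ * T) ^ 3 = (yJ * yJ * yJ) * ((yJ * yJ)⁻¹ * T * (yJ * yJ) * (yJ⁻¹ * T * yJ * T)) := by
        simp only [pow_succ, pow_zero, one_mul]; group
    _ = _ := by rw [hy, one_mul]

theorem sig_nil : sig [] = sJ := by simp [sig, wv]

theorem sig_append (w g : List ℕ) : sig (w ++ g) = (wv g)⁻¹ * sig w * wv g := by
  rw [sig, sig, wv_append]
  group

theorem sig_eq_taus (w : List ℕ) :
    sig w = tau (sW ++ [1, 1] ++ w) * (tau (sW ++ [1] ++ w) * (tau (sW ++ w) * 1)) := by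
  rw [sig, sJ_eq, tau_append (sW ++ [1, 1]) w, tau_append (sW ++ [1]) w, tau_append sW w]
  group

/-- A word in given generators. -/
def expS (gens : List (List ℕ)) (h : List ℕ) : List ℕ := h.flatMap fun i => gens.getD i []

theorem sJ_comm_expS {gens : List (List ℕ)} (hg : ∀ g ∈ gens, sig g = sJ) (h : List ℕ) :
    sJ * wv (expS gens h) = wv (expS gens h) * sJ := by
  induction h with
  | nil => simp [expS, wv]
  | cons i h ih =>
    rw [show expS gens (i :: h) = gens.getD i [] ++ expS gens h by simp [expS], wv_append,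
      ← mul_assoc]
    have hi : sJ * wv (gens.getD i []) = wv (gens.getD i []) * sJ := by
      rcases lt_or_ge i gens.length with hlt | hge
      · rw [List.getD_eq_getElem _ _ hlt]
        have e : (wv gens[i])⁻¹ * sJ * wv gens[i] = sJ := hg _ (List.getElem_mem hlt)
        rwa [mul_assoc, inv_mul_eq_iff_eq_mul] at e
      · rw [List.getD_eq_default _ _ hge]; simp [wv]
    rw [hi, mul_assoc, ih, mul_assoc]

theorem sig_eq (hf : Faithful) {gens : List (List ℕ)} (hg : ∀ g ∈ gens, sig g = sJ) (h : List ℕ)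
    {v w : List ℕ} (e : samePerm v (expS gens h ++ w) = true) : sig v = sig w := by
  rw [sig, hf _ _ e, wv_append, sig]
  calc (wv (expS gens h) * wv w)⁻¹ * sJ * (wv (expS gens h) * wv w)
      = (wv w)⁻¹ * ((wv (expS gens h))⁻¹ * (sJ * wv (expS gens h))) * wv w := by group
    _ = _ := by rw [sJ_comm_expS hg, inv_mul_cancel_left]

theorem sig_mul_self (h : sJ * sJ = 1) (w : List ℕ) : sig w * sig w = 1 := by
  calc sig w * sig w = (wv w)⁻¹ * (sJ * sJ) * wv w := by rw [sig]; group
    _ = 1 := by rw [h]; group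

theorem push (hf : Faithful) (h : List Bool) {a a' p : List ℕ}
    (e : samePerm (a ++ winv p) (expT h ++ a') = true) (r : J) :
    wv p * (tau a * r) = tau a' * (wv p * r) := by
  rw [← mul_assoc, wv_mul_tau, tau_eq hf h e, mul_assoc]

theorem pair_conj {f : List ℕ → J} (hconj : ∀ w g, f (w ++ g) = (wv g)⁻¹ * f w * wv g)
    {u v : List ℕ} (g : List ℕ) (h : f u * f v = f v * f u) :
    f (u ++ g) * f (v ++ g) = f (v ++ g) * f (u ++ g) := by
  rw [hconj, hconj]
  calc (wv g)⁻¹ * f u * wv g * ((wv g)⁻¹ * f v * wv g) = (wv g)⁻¹ * (f u * f v) * wv g := by group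
    _ = (wv g)⁻¹ * (f v * f u) * wv g := by rw [h]
    _ = _ := by group

theorem tau_comm_conj (hf : Faithful) {u v : List ℕ} (base : tau u * tau v = tau v * tau u)
    {a b : List ℕ} (g : List ℕ) (ha hb : List Bool)
    (e : (samePerm a (expT ha ++ (u ++ g)) && samePerm b (expT hb ++ (v ++ g))) = true) :
    tau a * tau b = tau b * tau a := by
  rw [Bool.and_eq_true] at e
  rw [tau_eq hf ha e.1, tau_eq hf hb e.2]
  exact pair_conj tau_append g base

theorem sig_comm_conj (hf : Faithful) {gens : List (List ℕ)} (hg : ∀ g ∈ gens, sig g = sJ)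
    {u v : List ℕ} (base : sig u * sig v = sig v * sig u)
    {a b : List ℕ} (g : List ℕ) (ha hb : List ℕ)
    (e : (samePerm a (expS gens ha ++ (u ++ g)) && samePerm b (expS gens hb ++ (v ++ g))) = true) :
    sig a * sig b = sig b * sig a := by
  rw [Bool.and_eq_true] at e
  rw [sig_eq hf hg ha e.1, sig_eq hf hg hb e.2]
  exact pair_conj sig_append g base

/-- Any two of three collinear conjugates of `sJ` multiply to the third one. -/
theorem sline_mul (hf : Faithful) {gens : List (List ℕ)} (hg : ∀ g ∈ gens, sig g = sJ)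
    (h2 : sJ * sJ = 1) {s1 s2 s3 : List ℕ} (base : sig s1 * sig s2 = sig s3) {a b c : List ℕ}
    (g : List ℕ) (i j k : ℕ) (ha hb hc : List ℕ)
    (e : (Nat.blt i 3 && (Nat.blt j 3 && (Nat.blt k 3 && (!(Nat.beq i j) && (!(Nat.beq i k) &&
      (!(Nat.beq j k) && (samePerm a (expS gens ha ++ ([s1, s2, s3].getD i [] ++ g)) &&
        (samePerm b (expS gens hb ++ ([s1, s2, s3].getD j [] ++ g)) &&
          samePerm c (expS gens hc ++ ([s1, s2, s3].getD k [] ++ g)))))))))) = true) :
    sig a * sig b = sig c := by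
  simp only [Bool.and_eq_true, Nat.blt_eq, Bool.not_eq_true'] at e
  obtain ⟨hi, hj, hk, hij, hik, hjk, ea, eb, ec⟩ := e
  rw [sig_eq hf hg ha ea, sig_eq hf hg hb eb, sig_eq hf hg hc ec, sig_append, sig_append _ g,
    sig_append _ g]
  have key := triangle (sig_mul_self h2 s1) (sig_mul_self h2 s2) (sig_mul_self h2 s3) base hi hj hk
    hij hik hjk
  have hget : ∀ n, n < 3 → [sig s1, sig s2, sig s3].getD n 1 = sig ([s1, s2, s3].getD n []) := by
    intro n hn
    interval_cases n <;> rfl
  rw [hget i hi, hget j hj, hget k hk] at key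
  rw [← key]
  group

end CfsgLib.JankoFour.HBound
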