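import Cfsg.Agent.JankoFour.Basic

/-!
Words in the generators `x, y` of the presented fourth Janko group, their permutations of the 24
points, the conjugates `τ` of `t` and the rules between them coming from the two symmetric relations.
Letters: `0` is `x`, `1` is `y`, anything else is the inverse of `y`.
-/

set_option autoImplicit false

namespace CfsgLib.JankoFour.HBound

open CfsgLib.JankoFour

local notation "J" => Cfsg.Spor.J4

/-- The value of a letter. -/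
def lv : ℕ → J
  | 0 => xJ
  | 1 => yJ
  | _ => yJ⁻¹

/-- The value of a word. -/
def wv (w : List ℕ) : J := (w.map lv).prod

/-- The packed permutation of a letter. -/
def tbl : ℕ → ℕ
  | 0 => 0x69a2158ea941ee098a0f7588592a8c
  | 1 => 0xb88a99ac12786ac838913d9b419948
  | _ => 0xb99a49c10b7a8ac9068038aa91d9d1

/-- The image of a point under a letter. -/
def pt1 (c i : ℕ) : ℕ := Nat.land (Nat.shiftRight (tbl c) (Nat.mul 5 i)) 31

/-- The image of a point under a word, read from the left. -/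
def ptW : List ℕ → ℕ → ℕ
  | [], i => i
  | c :: w, i => ptW w (pt1 c i)

/-- Two words give the same permutation. -/
def samePerm (v w : List ℕ) : Bool :=
  (List.range 24).all fun i => Nat.beq (ptW v i) (ptW w i)

/-- Words with the same permutation have the same value: the presentation of the Mathieu group. -/
def Faithful : Prop := ∀ v w : List ℕ, samePerm v w = true → wv v = wv w

/-- The inverse of a letter. -/
def linv : ℕ → ℕ
  | 0 => 0
  | 1 => 2
  | _ => 1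

/-- The inverse of a word. -/
def winv (w : List ℕ) : List ℕ := (w.map linv).reverse

theorem wv_append (v w : List ℕ) : wv (v ++ w) = wv v * wv w := by simp [wv]

theorem wv_nil : wv [] = 1 := rfl

theorem wv_winv (w : List ℕ) : wv (winv w) = (wv w)⁻¹ := by
  induction w with
  | nil => simp [winv, wv]
  | cons c w ih =>
    rw [show winv (c :: w) = winv w ++ [linv c] by simp [winv], wv_append, ih,
      show wv (c :: w) = lv c * wv w by simp [wv], mul_inv_rev]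
    congr 1
    have hx : xJ⁻¹ = xJ := inv_eq_of_mul_eq_one_right (by rw [← pow_two]; exact xJ_sq)
    rcases c with _ | _ | c <;> simp [wv, lv, linv, hx]

/-- The word `y x y (x y⁻¹)² (x y)³`. -/
def aW : List ℕ := [1, 0, 1, 0, 2, 0, 2, 0, 1, 0, 1, 0, 1]

/-- The word of the conjugating element of the first symmetric relation. -/
def uW : List ℕ := [1, 0, 2, 0, 1, 0, 2, 0]

/-- The word of the conjugating element of the second symmetric relation. -/
def vW : List ℕ := [0, 1, 0, 1, 0, 1, 1, 0, 1, 0, 1, 0, 1, 0, 1, 0, 1, 0, 1, 1]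

/-- The word `(y x y x y x y)³`. -/
def pW : List ℕ := [1, 0, 1, 0, 1, 0, 1] ++ [1, 0, 1, 0, 1, 0, 1] ++ [1, 0, 1, 0, 1, 0, 1]

/-- A word in `x` and `aW`. -/
def expT (h : List Bool) : List ℕ := h.flatMap fun b => if b then aW else [0]

/-- The conjugate of `t` by a word. -/
def tau (w : List ℕ) : J := (wv w)⁻¹ * tJ * wv w

theorem tJ_comm_x : tJ * xJ = xJ * tJ := by
  have h := rel_eq_one (w := Cfsg.Spor.J4.t⁻¹ * Cfsg.Spor.J4.x⁻¹ * Cfsg.Spor.J4.t * Cfsg.Spor.J4.x)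
    (by simp [Cfsg.Spor.J4.extra])
  simp only [map_mul, map_inv] at h
  change tJ⁻¹ * xJ⁻¹ * tJ * xJ = 1 at h
  calc tJ * xJ = xJ * tJ * (tJ⁻¹ * xJ⁻¹ * tJ * xJ) := by group
    _ = xJ * tJ := by rw [h, mul_one]

theorem tJ_comm_a : tJ * wv aW = wv aW * tJ := by
  have hw : wv aW = yJ * xJ * yJ * ((xJ * yJ⁻¹) ^ 2) * ((xJ * yJ) ^ 3) := by
    simp [wv, aW, lv, pow_succ, mul_assoc]
  have h := rel_eq_one (w := Cfsg.Spor.J4.t⁻¹ *
      (Cfsg.Spor.J4.y * Cfsg.Spor.J4.x * Cfsg.Spor.J4.y *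
        ((Cfsg.Spor.J4.x * Cfsg.Spor.J4.y⁻¹) ^ 2) * ((Cfsg.Spor.J4.x * Cfsg.Spor.J4.y) ^ 3))⁻¹ *
      Cfsg.Spor.J4.t *
      (Cfsg.Spor.J4.y * Cfsg.Spor.J4.x * Cfsg.Spor.J4.y *
        ((Cfsg.Spor.J4.x * Cfsg.Spor.J4.y⁻¹) ^ 2) * ((Cfsg.Spor.J4.x * Cfsg.Spor.J4.y) ^ 3)))
    (by simp [Cfsg.Spor.J4.extra])
  simp only [map_mul, map_inv, map_pow] at h
  change tJ⁻¹ * (yJ * xJ * yJ * (xJ * yJ⁻¹) ^ 2 * (xJ * yJ) ^ 3)⁻¹ * tJ *
    (yJ * xJ * yJ * (xJ * yJ⁻¹) ^ 2 * (xJ * yJ) ^ 3) = 1 at h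
  rw [← hw] at h
  calc tJ * wv aW = wv aW * tJ * (tJ⁻¹ * (wv aW)⁻¹ * tJ * wv aW) := by group
    _ = wv aW * tJ := by rw [h, mul_one]

theorem tJ_comm_expT (h : List Bool) : tJ * wv (expT h) = wv (expT h) * tJ := by
  induction h with
  | nil => simp [expT, wv]
  | cons b h ih =>
    rw [show expT (b :: h) = (if b then aW else [0]) ++ expT h by simp [expT], wv_append,
      ← mul_assoc]
    cases b
    · rw [show (if false = true then aW else [0]) = [0] from rfl,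
        show wv [0] = xJ by simp [wv, lv], tJ_comm_x, mul_assoc, ih, mul_assoc]
    · rw [show (if true = true then aW else [0]) = aW from rfl, tJ_comm_a, mul_assoc, ih,
        mul_assoc]

theorem tau_eq (hf : Faithful) (h : List Bool) {v w : List ℕ}
    (e : samePerm v (expT h ++ w) = true) : tau v = tau w := by
  rw [tau, hf _ _ e, wv_append, tau]
  calc (wv (expT h) * wv w)⁻¹ * tJ * (wv (expT h) * wv w)
      = (wv w)⁻¹ * ((wv (expT h))⁻¹ * (tJ * wv (expT h))) * wv w := by group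
    _ = _ := by rw [tJ_comm_expT, inv_mul_cancel_left]

theorem tau_nil : tau [] = tJ := by simp [tau, wv]

theorem tau_append (w g : List ℕ) : tau (w ++ g) = (wv g)⁻¹ * tau w * wv g := by
  rw [tau, tau, wv_append]
  group

theorem tau_mul_self (w : List ℕ) : tau w * tau w = 1 := by
  calc tau w * tau w = (wv w)⁻¹ * (tJ * tJ) * wv w := by rw [tau]; group
    _ = 1 := by rw [← pow_two, tJ_sq]; group

theorem tau_inv (w : List ℕ) : (tau w)⁻¹ = tau w := inv_eq_of_mul_eq_one_right (tau_mul_self w)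

theorem wv_mul_tau (p w : List ℕ) : wv p * tau w = tau (w ++ winv p) * wv p := by
  rw [tau_append, wv_winv]
  group

/-- The three words of the first symmetric relation. -/
def base3 : List (List ℕ) := [uW ++ [1, 1], uW ++ [1], uW]

/-- The first symmetric relation. -/
theorem line0 : tau (uW ++ [1, 1]) * tau (uW ++ [1]) * tau uW = 1 := by
  have hw : wv uW = yJ * xJ * yJ⁻¹ * xJ * yJ * xJ * yJ⁻¹ * xJ := by
    simp [wv, uW, lv, mul_assoc]
  have h := rel_eq_one (w := (Cfsg.Spor.J4.y *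
      ((Cfsg.Spor.J4.y * Cfsg.Spor.J4.x * Cfsg.Spor.J4.y⁻¹ * Cfsg.Spor.J4.x * Cfsg.Spor.J4.y *
          Cfsg.Spor.J4.x * Cfsg.Spor.J4.y⁻¹ * Cfsg.Spor.J4.x)⁻¹ * Cfsg.Spor.J4.t *
        (Cfsg.Spor.J4.y * Cfsg.Spor.J4.x * Cfsg.Spor.J4.y⁻¹ * Cfsg.Spor.J4.x * Cfsg.Spor.J4.y *
          Cfsg.Spor.J4.x * Cfsg.Spor.J4.y⁻¹ * Cfsg.Spor.J4.x))) ^ 3)
    (by simp [Cfsg.Spor.J4.extra])
  simp only [map_mul, map_inv, map_pow] at h
  change (yJ * ((yJ * xJ * yJ⁻¹ * xJ * yJ * xJ * yJ⁻¹ * xJ)⁻¹ * tJ *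
    (yJ * xJ * yJ⁻¹ * xJ * yJ * xJ * yJ⁻¹ * xJ))) ^ 3 = 1 at h
  rw [← hw, show (wv uW)⁻¹ * tJ * wv uW = tau uW from rfl] at h
  have hy : yJ * yJ * yJ = 1 := by rw [← pow_two, ← pow_succ]; exact yJ_cube
  rw [tau_append, tau_append, show wv [1, 1] = yJ * yJ by simp [wv, lv],
    show wv [1] = yJ by simp [wv, lv]]
  calc (yJ * yJ)⁻¹ * tau uW * (yJ * yJ) * (yJ⁻¹ * tau uW * yJ) * tau uW
      = (yJ * yJ * yJ)⁻¹ * ((yJ * tau uW) * (yJ * tau uW) * (yJ * tau uW)) := by group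
    _ = 1 := by rw [hy, inv_one, one_mul, ← pow_two, ← pow_succ, h]

/-- Any two letters of a line multiply to the third one. -/
theorem line_mul (hf : Faithful) {a b c : List ℕ} (g : List ℕ) (i j k : ℕ) (ha hb hc : List Bool)
    (e : (Nat.blt i 3 && (Nat.blt j 3 && (Nat.blt k 3 && (!(Nat.beq i j) && (!(Nat.beq i k) &&
      (!(Nat.beq j k) && (samePerm a (expT ha ++ (base3.getD i [] ++ g)) &&
        (samePerm b (expT hb ++ (base3.getD j [] ++ g)) &&
          samePerm c (expT hc ++ (base3.getD k [] ++ g)))))))))) = true) :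
    tau a * tau b = tau c := by
  simp only [Bool.and_eq_true, Nat.blt_eq, Bool.not_eq_true'] at e
  obtain ⟨hi, hj, hk, hij, hik, hjk, ea, eb, ec⟩ := e
  rw [tau_eq hf ha ea, tau_eq hf hb eb, tau_eq hf hc ec, tau_append, tau_append _ g,
    tau_append _ g]
  suffices key : tau (base3.getD i []) * tau (base3.getD j []) = tau (base3.getD k []) by
    rw [← key]
    group
  obtain ⟨A, hA⟩ : ∃ A, tau (uW ++ [1, 1]) = A := ⟨_, rfl⟩
  obtain ⟨B, hB⟩ : ∃ B, tau (uW ++ [1]) = B := ⟨_, rfl⟩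
  obtain ⟨C, hC⟩ : ∃ C, tau uW = C := ⟨_, rfl⟩
  have h0 : A * B * C = 1 := by rw [← hA, ← hB, ← hC]; exact line0
  have a2 : A * A = 1 := hA ▸ tau_mul_self _
  have b2 : B * B = 1 := hB ▸ tau_mul_self _
  have c2 : C * C = 1 := hC ▸ tau_mul_self _
  have hAB : A * B = C := by
    rw [eq_inv_of_mul_eq_one_left h0]; exact inv_eq_of_mul_eq_one_right c2
  have hBC : B * C = A := by
    rw [← hAB, ← mul_assoc, ← one_mul (B * A * B), ← a2, show A * A * (B * A * B)
      = A * (A * B) * (A * B) by group, hAB, mul_assoc, c2, mul_one]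
  have hBA : B * A = C := by
    rw [← hBC, ← mul_assoc, b2, one_mul]
  have hCB : C * B = A := by rw [← hAB, mul_assoc, b2, mul_one]
  have hAC : A * C = B := by rw [← hAB, ← mul_assoc, a2, one_mul]
  have hCA : C * A = B := by rw [← hBA, mul_assoc, a2, mul_one]
  interval_cases i <;> interval_cases j <;> interval_cases k <;>
    simp_all [base3]

/-- The second symmetric relation. -/
theorem conj0 (hf : Faithful) (h : List Bool) (e : samePerm pW (expT h) = true)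
    (e2 : samePerm (pW ++ pW ++ (pW ++ pW)) [] = true) :
    tau [] * tau (vW ++ pW) * tau [] = tau vW * wv (pW ++ pW) := by
  have hw : wv pW = (yJ * xJ * yJ * xJ * yJ * xJ * yJ) ^ 3 := by
    simp [wv, pW, lv, pow_succ, mul_assoc]
  have hv : wv vW = (xJ * yJ) ^ 3 * yJ * (xJ * yJ) ^ 6 * yJ := by
    simp [wv, vW, lv, pow_succ, mul_assoc]
  have hr := rel_eq_one (w := (((Cfsg.Spor.J4.y * Cfsg.Spor.J4.x * Cfsg.Spor.J4.y * Cfsg.Spor.J4.x *
      Cfsg.Spor.J4.y * Cfsg.Spor.J4.x * Cfsg.Spor.J4.y) ^ 3) * Cfsg.Spor.J4.t *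
      ((((Cfsg.Spor.J4.x * Cfsg.Spor.J4.y) ^ 3) * Cfsg.Spor.J4.y *
          ((Cfsg.Spor.J4.x * Cfsg.Spor.J4.y) ^ 6) * Cfsg.Spor.J4.y)⁻¹ * Cfsg.Spor.J4.t *
        (((Cfsg.Spor.J4.x * Cfsg.Spor.J4.y) ^ 3) * Cfsg.Spor.J4.y *
          ((Cfsg.Spor.J4.x * Cfsg.Spor.J4.y) ^ 6) * Cfsg.Spor.J4.y))) ^ 2)
    (by simp [Cfsg.Spor.J4.extra])
  simp only [map_mul, map_inv, map_pow] at hr
  change ((yJ * xJ * yJ * xJ * yJ * xJ * yJ) ^ 3 * tJ *
    (((xJ * yJ) ^ 3 * yJ * (xJ * yJ) ^ 6 * yJ)⁻¹ * tJ *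
      ((xJ * yJ) ^ 3 * yJ * (xJ * yJ) ^ 6 * yJ))) ^ 2 = 1 at hr
  rw [← hw, ← hv, show (wv vW)⁻¹ * tJ * wv vW = tau vW from rfl] at hr
  have hp : (wv pW)⁻¹ * tJ * wv pW = tJ := by
    rw [hf _ _ e, mul_assoc, tJ_comm_expT, inv_mul_cancel_left]
  obtain ⟨B, hB⟩ : ∃ B, tau vW = B := ⟨_, rfl⟩
  obtain ⟨p, hpp⟩ : ∃ p, wv pW = p := ⟨_, rfl⟩
  have b2 : B * B = 1 := hB ▸ tau_mul_self _
  have p4 : p * p * (p * p) = 1 := by
    have := hf _ _ e2
    rwa [wv_append, wv_append, wv_nil, hpp] at this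
  rw [hpp, mul_assoc, inv_mul_eq_iff_eq_mul] at hp
  rw [tau_nil, tau_append, wv_append, hB, hpp]
  rw [hB, hpp] at hr
  have h2 : p * tJ * B * (p * tJ * B) = 1 := by rw [← pow_two]; exact hr
  have t2 : tJ * tJ = 1 := by rw [← pow_two]; exact tJ_sq
  have ti : tJ⁻¹ = tJ := inv_eq_of_mul_eq_one_right t2
  have h3 : p * tJ * B * p * tJ = B := by
    rw [← inv_eq_of_mul_eq_one_right b2, eq_inv_iff_mul_eq_one, inv_eq_of_mul_eq_one_right b2,
      ← h2]
    group
  have h4 : tJ * (p⁻¹ * B * p) * tJ = (p * p)⁻¹ * B := by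
    have hc : tJ * p⁻¹ = p⁻¹ * tJ := by
      rw [eq_inv_mul_iff_mul_eq, ← mul_assoc, ← hp, mul_inv_cancel_right]
    calc tJ * (p⁻¹ * B * p) * tJ = (tJ * p⁻¹) * B * p * tJ := by group
      _ = p⁻¹ * p⁻¹ * (p * tJ * B * p * tJ) := by rw [hc]; group
      _ = _ := by rw [h3]; group
  calc tJ * (p⁻¹ * B * p) * tJ = (tJ * (p⁻¹ * B * p) * tJ)⁻¹ := by
        simp only [mul_inv_rev, inv_inv, ti, inv_eq_of_mul_eq_one_right b2, mul_assoc]
    _ = B * (p * p) := by
        rw [h4, mul_inv_rev, inv_inv, inv_eq_of_mul_eq_one_right b2]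

/-- The rewriting rule `t_x t_y = t_e p t_x` from the second symmetric relation. -/
theorem conj_mul (hf : Faithful) (hP : List Bool) {x y e : List ℕ} (g : List ℕ) (hx hy he : List Bool)
    (ok : (samePerm pW (expT hP) && (samePerm (pW ++ pW ++ (pW ++ pW)) [] &&
      (samePerm x (expT hx ++ g) && (samePerm y (expT hy ++ ((vW ++ pW) ++ g)) &&
        samePerm e (expT he ++ (vW ++ g)))))) = true) :
    tau x * tau y = tau e * wv (winv g ++ (pW ++ pW) ++ g) * tau x := by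
  simp only [Bool.and_eq_true] at ok
  obtain ⟨e1, e2, ex, ey, ee⟩ := ok
  rw [tau_eq hf hx ex, tau_eq hf hy ey, tau_eq hf he ee, tau_append (vW ++ pW) g, tau_append vW g,
    show tau g = (wv g)⁻¹ * tau [] * wv g by rw [← tau_append, List.nil_append],
    wv_append, wv_append, wv_winv]
  have h0 := conj0 hf hP e1 e2
  have t2 := tau_mul_self []
  calc (wv g)⁻¹ * tau [] * wv g * ((wv g)⁻¹ * tau (vW ++ pW) * wv g)
      = (wv g)⁻¹ * (tau [] * tau (vW ++ pW) * (tau [] * tau [])) * wv g := by rw [t2]; group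
    _ = (wv g)⁻¹ * ((tau [] * tau (vW ++ pW) * tau []) * tau []) * wv g := by
        rw [← mul_assoc (tau [] * tau (vW ++ pW))]
    _ = _ := by rw [h0]; group

end CfsgLib.JankoFour.HBound
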