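import Mathlib.GroupTheory.OrderOfElement
import Mathlib.GroupTheory.QuotientGroup.Basic
import Mathlib.GroupTheory.Subgroup.Simple
import Mathlib.GroupTheory.NoncommCoprod
import Mathlib.GroupTheory.Coprod.Basic
import Mathlib.GroupTheory.Index
import Mathlib.Algebra.Group.Subgroup.Pointwise
import Mathlib.GroupTheory.GroupAction.Defs
import Mathlib.GroupTheory.Perm.Cycle.Type
import Mathlib.GroupTheory.SpecificGroups.Cyclic

/-!
# Divisibility certificates for the order of a finite group
-/

set_option autoImplicit false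
set_option linter.style.haveILetI false

namespace CfsgLib.JankoFour

universe u v

variable {G : Type u} [Group G]

/-- The join of two subgroups which commute and meet trivially. -/
theorem card_sup_of_commute {A B : Subgroup G} (hc : ∀ a ∈ A, ∀ b ∈ B, Commute a b)
    (hd : Disjoint A B) : Nat.card (A ⊔ B : Subgroup G) = Nat.card A * Nat.card B := by
  have hinj : Function.Injective
      (MonoidHom.noncommCoprod A.subtype B.subtype fun a b => hc a a.2 b b.2) :=
    (MonoidHom.noncommCoprod_injective (f := A.subtype) (g := B.subtype)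
      (comm := fun a b => hc a a.2 b b.2)).2
      ⟨A.subtype_injective, B.subtype_injective, by
        simpa [Subgroup.range_subtype] using hd⟩
  have hr := MonoidHom.noncommCoprod_range (f := A.subtype) (g := B.subtype)
    (comm := fun a b => hc a a.2 b b.2)
  rw [Subgroup.range_subtype, Subgroup.range_subtype] at hr
  rw [← hr, ← Nat.card_congr (MonoidHom.ofInjective hinj).toEquiv, Nat.card_prod]

/-- A cube of a prime from a commutator that is central. -/
theorem cube_dvd_card [Finite G] {p : ℕ} (hp : p.Prime) {y b C : G} (hC : b * y * b⁻¹ = C * y)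
    (hy : y ^ p = 1) (hCy : Commute C y) (hCb : Commute C b) (h1 : C ≠ 1) :
    p ^ 3 ∣ Nat.card G := by
  haveI := Fact.mk hp
  have hCp : C ^ p = 1 := by
    have h := conj_pow (a := b) (b := y) (i := p)
    rw [hC, hCy.mul_pow, hy] at h
    simpa using h
  have hy1 : y ≠ 1 := by
    rintro rfl
    exact h1 (by simpa using hC.symm)
  have hC' : Nat.card (Subgroup.zpowers C) = p := by
    rw [Nat.card_zpowers, orderOf_eq_prime hCp h1]
  have hyC : y ∉ Subgroup.zpowers C := by
    intro h
    obtain ⟨k, rfl⟩ := Subgroup.mem_zpowers_iff.1 h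
    rw [((hCb.zpow_left k).symm).eq, mul_inv_cancel_right] at hC
    exact h1 (right_eq_mul.1 hC)
  have hd : Disjoint (Subgroup.zpowers C) (Subgroup.zpowers y) := by
    rw [disjoint_iff]
    have hdvd : Nat.card (Subgroup.zpowers C ⊓ Subgroup.zpowers y : Subgroup G) ∣ p :=
      hC' ▸ Subgroup.card_dvd_of_le inf_le_left
    rcases (Nat.dvd_prime hp).1 hdvd with e | e
    · exact Subgroup.eq_bot_of_card_eq _ e
    · exfalso
      have hle := Subgroup.eq_of_le_of_card_ge
        (inf_le_right : Subgroup.zpowers C ⊓ Subgroup.zpowers y ≤ Subgroup.zpowers y)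
        (by rw [e, Nat.card_zpowers, orderOf_eq_prime hy hy1])
      exact hyC (Subgroup.mem_inf.1 (hle.symm ▸ Subgroup.mem_zpowers y)).1
  set A := Subgroup.zpowers C ⊔ Subgroup.zpowers y
  have hA : Nat.card A = p * p := by
    rw [card_sup_of_commute (fun a ha b hb => ?_) hd, hC', Nat.card_zpowers,
      orderOf_eq_prime hy hy1]
    obtain ⟨i, rfl⟩ := Subgroup.mem_zpowers_iff.1 ha
    obtain ⟨j, rfl⟩ := Subgroup.mem_zpowers_iff.1 hb
    exact hCy.zpow_zpow i j
  have hb : b ∈ Subgroup.normalizer (A : Set G) := by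
    have hle : A.map (MulAut.conj b).toMonoidHom ≤ A := by
      rw [Subgroup.map_sup, MonoidHom.map_zpowers, MonoidHom.map_zpowers, sup_le_iff,
        Subgroup.zpowers_le, Subgroup.zpowers_le]
      refine ⟨?_, ?_⟩
      · change b * C * b⁻¹ ∈ A
        rw [hCb.symm.eq, mul_inv_cancel_right]
        exact Subgroup.mem_sup_left (Subgroup.mem_zpowers C)
      · change b * y * b⁻¹ ∈ A
        rw [hC]
        exact mul_mem (Subgroup.mem_sup_left (Subgroup.mem_zpowers C))
          (Subgroup.mem_sup_right (Subgroup.mem_zpowers y))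
    have heq := Subgroup.eq_of_le_of_card_ge hle
      (Subgroup.card_map_of_injective (MulAut.conj b).injective).ge
    refine Subgroup.mem_normalizer_iff.2 fun a => ⟨fun ha => hle ⟨a, ha, rfl⟩, fun ha => ?_⟩
    change b * a * b⁻¹ ∈ A at ha
    rw [← heq] at ha
    obtain ⟨a', ha', e⟩ := ha
    exact (MulAut.conj b).injective (show MulAut.conj b a' = MulAut.conj b a from e) ▸ ha'
  have hyA : ∀ a ∈ A, Commute a y := fun a ha => by
    refine (show A ≤ Subgroup.centralizer ({y} : Set G) from sup_le ?_ ?_) ha |>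
      Subgroup.mem_centralizer_singleton_iff.1
    · rw [Subgroup.zpowers_le, Subgroup.mem_centralizer_singleton_iff]; exact hCy.eq
    · rw [Subgroup.zpowers_le, Subgroup.mem_centralizer_singleton_iff]
  set N := Subgroup.normalizer (A : Set G)
  set β : N ⧸ A.subgroupOf N := QuotientGroup.mk ⟨b, hb⟩
  have hord : p ∣ orderOf β := by
    have hk : b ^ orderOf β ∈ A := by
      have h := pow_orderOf_eq_one β
      rw [← QuotientGroup.mk_pow, QuotientGroup.eq_one_iff, Subgroup.mem_subgroupOf] at h
      exact h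
    have hpow : ∀ k : ℕ, b ^ k * y * (b ^ k)⁻¹ = C ^ k * y := fun k => by
      induction k with
      | zero => simp
      | succ k ih =>
        calc b ^ (k + 1) * y * (b ^ (k + 1))⁻¹ = b * (b ^ k * y * (b ^ k)⁻¹) * b⁻¹ := by group
          _ = (b * C ^ k * b⁻¹) * (b * y * b⁻¹) := by rw [ih]; group
          _ = C ^ (k + 1) * y := by
            rw [hC, ((hCb.symm).pow_right k).eq, mul_inv_cancel_right, pow_succ, mul_assoc]
    have h := hpow (orderOf β)
    rw [(hyA _ hk).eq, mul_inv_cancel_right] at h
    rw [← orderOf_eq_prime hCp h1]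
    exact orderOf_dvd_of_pow_eq_one (mul_eq_right.1 h.symm)
  have hN : p ^ 3 ∣ Nat.card N := by
    rw [Subgroup.card_eq_card_quotient_mul_card_subgroup (A.subgroupOf N),
      Nat.card_congr (Subgroup.subgroupOfEquivOfLe Subgroup.le_normalizer).toEquiv, hA,
      show p ^ 3 = p * (p * p) by ring]
    exact Nat.mul_dvd_mul_right (hord.trans (orderOf_dvd_natCard β)) _
  exact hN.trans (Subgroup.card_subgroup_dvd_card N)

/-- An elementary group on involutions separated by the points of an action. -/
theorem card_closure_involutions [Finite G] {α : Type v} [MulAction G α] {n : ℕ} (q : Fin n → G)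
    (hq : ∀ i, q i * q i = 1) (hc : ∀ i j, j < i → Commute (q j) (q i)) (w : Fin n → α)
    (hfix : ∀ i j, j < i → q j • w i = w i) (hmove : ∀ i, q i • w i ≠ w i) :
    Nat.card (Subgroup.closure (Set.range q)) = 2 ^ n := by
  haveI : Fact (Nat.Prime 2) := ⟨Nat.prime_two⟩
  induction n with
  | zero =>
    rw [Set.range_eq_empty, Subgroup.closure_empty, Subgroup.card_bot, pow_zero]
  | succ n ih =>
    have ih' := ih (q ∘ Fin.castSucc) (fun i => hq _)
      (fun i j h => hc _ _ (Fin.castSucc_lt_castSucc_iff.2 h)) (w ∘ Fin.castSucc)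
      (fun i j h => hfix _ _ (Fin.castSucc_lt_castSucc_iff.2 h)) (fun i => hmove _)
    set A := Subgroup.closure (Set.range (q ∘ Fin.castSucc))
    set e := q (Fin.last n)
    have he : orderOf e = 2 := orderOf_eq_prime (by rw [pow_two]; exact hq _) fun h =>
      hmove (Fin.last n) (by rw [show q (Fin.last n) = 1 from h, one_smul])
    have hA : A ≤ MulAction.stabilizer G (w (Fin.last n)) := by
      rw [Subgroup.closure_le]
      rintro _ ⟨j, rfl⟩
      exact hfix _ _ (Fin.castSucc_lt_last j)
    have hd : Disjoint A (Subgroup.zpowers e) := by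
      rw [disjoint_iff]
      have hdvd : Nat.card (A ⊓ Subgroup.zpowers e : Subgroup G) ∣ 2 := by
        rw [← he, ← Nat.card_zpowers]; exact Subgroup.card_dvd_of_le inf_le_right
      rcases (Nat.dvd_prime Nat.prime_two).1 hdvd with h | h
      · exact Subgroup.eq_bot_of_card_eq _ h
      · exfalso
        have hle := Subgroup.eq_of_le_of_card_ge
          (inf_le_right : A ⊓ Subgroup.zpowers e ≤ Subgroup.zpowers e)
          (by rw [h, Nat.card_zpowers, he])
        exact hmove (Fin.last n) (hA (Subgroup.mem_inf.1 (hle.symm ▸ Subgroup.mem_zpowers e)).1)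
    have hcA : ∀ a ∈ A, ∀ b ∈ Subgroup.zpowers e, Commute a b := by
      intro a ha b hb
      obtain ⟨k, rfl⟩ := Subgroup.mem_zpowers_iff.1 hb
      refine Commute.zpow_right ((show A ≤ Subgroup.centralizer ({e} : Set G) from ?_) ha |>
        Subgroup.mem_centralizer_singleton_iff.1) k
      rw [Subgroup.closure_le]
      rintro _ ⟨j, rfl⟩
      exact Subgroup.mem_centralizer_singleton_iff.2 (hc _ _ (Fin.castSucc_lt_last j)).eq
    have hsup : Subgroup.closure (Set.range q) = A ⊔ Subgroup.zpowers e := by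
      rw [Subgroup.zpowers_eq_closure, ← Subgroup.closure_union]
      congr 1
      ext g
      constructor
      · rintro ⟨i, rfl⟩
        refine Fin.lastCases (Or.inr rfl) (fun j => Or.inl ⟨j, rfl⟩) i
      · rintro (⟨j, rfl⟩ | rfl) <;> exact ⟨_, rfl⟩
    rw [hsup, card_sup_of_commute hcA hd, ih', Nat.card_zpowers, he, pow_succ]

/-- A simple subgroup of order divisible by three normalising a `2`-subgroup. -/
theorem mul_card_dvd [Finite G] {A B : Subgroup G} {n : ℕ} (hA : Nat.card A = 2 ^ n)
    [IsSimpleGroup B] (h3 : 3 ∣ Nat.card B) (hB : B ≤ Subgroup.normalizer (A : Set G)) :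
    2 ^ n * Nat.card B ∣ Nat.card G := by
  have hn : (A.subgroupOf B).Normal := Subgroup.normal_subgroupOf_of_le_normalizer hB
  have hbot : A.subgroupOf B = ⊥ := by
    refine (Subgroup.Normal.eq_bot_or_eq_top hn).resolve_right fun h => ?_
    have hle := Subgroup.card_dvd_of_le (Subgroup.subgroupOf_eq_top.1 h)
    rw [hA] at hle
    have := Nat.prime_three.dvd_of_dvd_pow (h3.trans hle)
    norm_num at this
  set N := A ⊔ B
  haveI : (A.subgroupOf N).Normal :=
    Subgroup.normal_subgroupOf_of_le_normalizer (sup_le Subgroup.le_normalizer hB)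
  set f : B →* N ⧸ A.subgroupOf N :=
    (QuotientGroup.mk' _).comp (Subgroup.inclusion le_sup_right)
  have hf : Function.Injective f := by
    refine (injective_iff_map_eq_one f).2 fun b hb => ?_
    have : b ∈ A.subgroupOf B := Subgroup.mem_subgroupOf.2
      (Subgroup.mem_subgroupOf.1 ((QuotientGroup.eq_one_iff _).1 hb) : _)
    rwa [hbot, Subgroup.mem_bot] at this
  refine Dvd.dvd.trans ?_ (Subgroup.card_subgroup_dvd_card N)
  rw [Subgroup.card_eq_card_quotient_mul_card_subgroup (A.subgroupOf N),
    Nat.card_congr (Subgroup.subgroupOfEquivOfLe le_sup_left).toEquiv, hA, mul_comm]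
  exact Nat.mul_dvd_mul_right (Subgroup.card_dvd_of_injective f hf) _

/-- A prime period of a point divides the order of the group. -/
theorem prime_dvd_card_of_period [Finite G] {α : Type v} [MulAction G α] {p : ℕ} (hp : p.Prime)
    {g : G} {a : α} (hp' : g ^ p • a = a) (hne : g • a ≠ a) : p ∣ Nat.card G := by
  refine Dvd.dvd.trans ?_ (orderOf_dvd_natCard g)
  by_contra hnd
  obtain ⟨m, hm⟩ := exists_pow_eq_self_of_coprime (n := p) (x := g)
    ((Nat.Prime.coprime_iff_not_dvd hp).2 hnd)
  refine hne (MulAction.mem_stabilizer_iff.1 ?_)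
  rw [← hm]
  exact pow_mem (MulAction.mem_stabilizer_iff.2 hp' : g ^ p ∈ MulAction.stabilizer G a) m

/-- The factors of the order of the fourth Janko group. -/
theorem dvd_of_parts {n : ℕ} (hH : 2 ^ 11 * 244823040 ∣ n) (h29 : 29 ∣ n) (h31 : 31 ∣ n)
    (h37 : 37 ∣ n) (h43 : 43 ∣ n) (h11 : 11 ^ 3 ∣ n) : 86775571046077562880 ∣ n := by
  have hB : 2 ^ 11 * 22256640 ∣ n := (Dvd.intro_left 11 (by norm_num)).trans hH
  rw [show 86775571046077562880 = 2 ^ 11 * 22256640 * 29 * 31 * 37 * 43 * 11 ^ 3 by norm_num]
  refine Nat.Coprime.mul_dvd_of_dvd_of_dvd (by norm_num)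
    (Nat.Coprime.mul_dvd_of_dvd_of_dvd (by norm_num) (Nat.Coprime.mul_dvd_of_dvd_of_dvd (by norm_num)
      (Nat.Coprime.mul_dvd_of_dvd_of_dvd (by norm_num) (Nat.Coprime.mul_dvd_of_dvd_of_dvd (by norm_num)
        hB h29) h31) h37) h43) h11

end CfsgLib.JankoFour
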