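import Cfsg.Agent.JankoFour.Basic
import Cfsg.Agent.JankoFour.LowerGroup
import Cfsg.Agent.Mathieu.SmallSimple
import Cfsg.Agent.Mathieu.M24Order

/-!
# The order of an image of the presented fourth Janko group from witnesses
-/

set_option autoImplicit false
set_option linter.style.haveILetI false

namespace CfsgLib.JankoFour

universe u v

variable {X : Type u} [Group X]

/-- The witnesses for the order in a finite group. -/
structure LowerWitness (ρ : Cfsg.Spor.J4 →* X) (α : Type v) [MulAction X α] where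
  q : Fin 11 → Cfsg.Spor.J4
  sep : Fin 11 → α
  q_sq : ∀ i, ρ (q i) * ρ (q i) = 1
  q_comm : ∀ i j, j < i → Commute (ρ (q j)) (ρ (q i))
  sep_fix : ∀ i j, j < i → ρ (q j) • sep i = sep i
  sep_move : ∀ i, ρ (q i) • sep i ≠ sep i
  q_x : ∀ i, ∃ l : List (Fin 11), ρ xJ * ρ (q i) = (l.map fun j => ρ (q j)).prod * ρ xJ
  q_y : ∀ i, ∃ l : List (Fin 11), ρ yJ * ρ (q i) = (l.map fun j => ρ (q j)).prod * ρ yJ
  moved : ∃ a : α, ρ xJ • a ≠ a
  period : ∀ p, p ∈ [29, 31, 37, 43] → ∃ (g : X) (a : α), g ∈ ρ.range ∧ g ^ p • a = a ∧ g • a ≠ a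
  eleven : ∃ y b C : X, y ∈ ρ.range ∧ b ∈ ρ.range ∧ C ∈ ρ.range ∧ b * y = C * y * b ∧ y ^ 11 = 1 ∧
    Commute C y ∧ Commute C b ∧ C ≠ 1

theorem LowerWitness.card_dvd [Finite X] {α : Type v} [MulAction X α] {ρ : Cfsg.Spor.J4 →* X}
    (w : LowerWitness ρ α) (e : Nonempty (mSub ≃* Cfsg.M24)) :
    86775571046077562880 ∣ Nat.card ρ.range := by
  obtain ⟨e⟩ := e
  haveI : IsSimpleGroup Cfsg.M24 := Mathieu.simple_M24
  haveI : IsSimpleGroup mSub := e.isSimpleGroup
  haveI : Finite mSub := Finite.of_equiv _ e.symm.toEquiv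
  set r : Cfsg.Spor.J4 →* ρ.range := ρ.rangeRestrict
  set B : Subgroup ρ.range := mSub.map r
  have hinj : Function.Injective (r.comp mSub.subtype) := by
    refine (MonoidHom.ker_eq_bot_iff _).1 ((IsSimpleGroup.eq_bot_or_eq_top_of_normal _
      inferInstance).resolve_right fun h => ?_)
    obtain ⟨a, ha⟩ := w.moved
    have hx : (⟨xJ, Subgroup.subset_closure (by simp)⟩ : mSub) ∈
        (r.comp mSub.subtype).ker := by rw [h]; trivial
    have hx' : ρ xJ = 1 := congrArg Subtype.val (MonoidHom.mem_ker.1 hx)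
    exact ha (by rw [hx', one_smul])
  have hBrange : B = (r.comp mSub.subtype).range := by
    rw [MonoidHom.range_comp, Subgroup.range_subtype]
  let eB : mSub ≃* B := (MonoidHom.ofInjective hinj).trans (MulEquiv.subgroupCongr hBrange.symm)
  haveI : IsSimpleGroup B := eB.symm.isSimpleGroup
  have hB : Nat.card B = 244823040 := by
    rw [← Nat.card_congr eB.toEquiv, Nat.card_congr e.toEquiv, Mathieu.card_M24]
  set A : Subgroup ρ.range := Subgroup.closure (Set.range fun i => r (w.q i))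
  have hA : Nat.card A = 2 ^ 11 :=
    card_closure_involutions (fun i => r (w.q i)) (fun i => Subtype.ext (w.q_sq i))
      (fun i j h => Subtype.ext (w.q_comm i j h).eq) w.sep w.sep_fix w.sep_move
  have hgen : ∀ g : Cfsg.Spor.J4,
      (∀ i, ∃ l : List (Fin 11), ρ g * ρ (w.q i) = (l.map fun j => ρ (w.q j)).prod * ρ g) →
      r g ∈ Subgroup.normalizer (A : Set ρ.range) := by
    intro g hg
    have hle : A.map (MulAut.conj (r g)).toMonoidHom ≤ A := by
      rw [Subgroup.map_le_iff_le_comap, Subgroup.closure_le]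
      rintro _ ⟨i, rfl⟩
      obtain ⟨l, hl⟩ := hg i
      have e' : r g * r (w.q i) * (r g)⁻¹ = (l.map fun j => r (w.q j)).prod := by
        refine Subtype.ext ?_
        rw [Subgroup.val_list_prod, List.map_map]
        change ρ g * ρ (w.q i) * (ρ g)⁻¹ = _
        rw [hl, mul_inv_cancel_right]
        rfl
      change r g * r (w.q i) * (r g)⁻¹ ∈ A
      rw [e']
      refine list_prod_mem fun x hx => ?_
      obtain ⟨j, -, rfl⟩ := List.mem_map.1 hx
      exact Subgroup.subset_closure ⟨j, rfl⟩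
    have heq := Subgroup.eq_of_le_of_card_ge hle
      (Subgroup.card_map_of_injective (MulAut.conj (r g)).injective).ge
    refine Subgroup.mem_normalizer_iff.2 fun a => ⟨fun ha => hle ⟨a, ha, rfl⟩, fun ha => ?_⟩
    change r g * a * (r g)⁻¹ ∈ A at ha
    rw [← heq] at ha
    obtain ⟨a', ha', e'⟩ := ha
    exact (MulAut.conj (r g)).injective
      (show MulAut.conj (r g) a' = MulAut.conj (r g) a from e') ▸ ha'
  have hnorm : B ≤ Subgroup.normalizer (A : Set ρ.range) := by
    rw [Subgroup.map_le_iff_le_comap, Subgroup.closure_le]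
    rintro g (rfl | rfl)
    · exact hgen _ w.q_x
    · exact hgen _ w.q_y
  have hH := mul_card_dvd hA (B := B) (by rw [hB]; norm_num) hnorm
  rw [hB] at hH
  have hper : ∀ p, p.Prime → p ∈ [29, 31, 37, 43] → p ∣ Nat.card ρ.range := fun p hp hm => by
    obtain ⟨g, a, hg, h1, h2⟩ := w.period p hm
    exact prime_dvd_card_of_period hp (g := (⟨g, hg⟩ : ρ.range)) (a := a) h1 h2
  obtain ⟨y, b, C, hy, hb, hC, hby, hy11, hCy, hCb, hC1⟩ := w.eleven
  refine dvd_of_parts hH (hper 29 (by norm_num) (by simp)) (hper 31 (by norm_num) (by simp))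
    (hper 37 (by norm_num) (by simp)) (hper 43 (by norm_num) (by simp))
    (cube_dvd_card (by norm_num) (y := (⟨y, hy⟩ : ρ.range)) (b := ⟨b, hb⟩) (C := ⟨C, hC⟩)
      (Subtype.ext (mul_inv_eq_iff_eq_mul.2 hby)) (Subtype.ext hy11) (Subtype.ext hCy.eq)
      (Subtype.ext hCb.eq) fun e => hC1 (congrArg Subtype.val e))

end CfsgLib.JankoFour
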