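import Cfsg.Agent.JankoFourRep.Bits

/-!
Words in matrices of size 112 over the field with two elements, evaluated on matrices packed into one
number (one lane of 128 bits for each row): one product costs about as much as one row times a matrix.
-/

set_option autoImplicit false

namespace CfsgLib.JankoFour

open CfsgLib.JankoFourRep

/-- The width of a lane. -/
abbrev lane : ℕ := 340282366920938463463374607431768211456

theorem lane_eq : lane = 2 ^ 128 := rfl

/-- The rows in lanes. -/
def pack : List ℕ → ℕ
  | [] => 0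
  | a :: L => a + lane * pack L

/-- The lowest bit of each of `n` lanes. -/
def lanesOne : ℕ → ℕ
  | 0 => 0
  | n + 1 => 1 + lane * lanesOne n

/-- All packed rows times the rows from the bit `k`. -/
def pmulFrom (ones : ℕ) : List ℕ → ℕ → ℕ → ℕ
  | [], _, _ => 0
  | a :: L, P, k => Nat.xor (Nat.mul (Nat.land (Nat.shiftRight P k) ones) a) (pmulFrom ones L P (k + 1))

/-- Packed rows times a word. -/
def evalPack (ones : ℕ) (G : ℕ → List ℕ) : List ℕ → ℕ → ℕ
  | [], P => P
  | c :: w, P => CosetEnum.force (pmulFrom ones (G c) P 0) (evalPack ones G w)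

theorem testBit_lane (x X i : ℕ) (hx : x < lane) :
    (x + lane * X).testBit i = if i < 128 then x.testBit i else X.testBit (i - 128) := by
  rw [add_comm, lane_eq, Nat.testBit_two_pow_mul_add _ (lane_eq ▸ hx)]

theorem lane_xor (x y X Y : ℕ) (hx : x < lane) (hy : y < lane) :
    (x + lane * X) ^^^ (y + lane * Y) = (x ^^^ y) + lane * (X ^^^ Y) := by
  have hxy : x ^^^ y < lane := lane_eq ▸ Nat.xor_lt_two_pow (lane_eq ▸ hx) (lane_eq ▸ hy)
  refine Nat.eq_of_testBit_eq fun i => ?_
  rw [Nat.testBit_xor, testBit_lane _ _ _ hx, testBit_lane _ _ _ hy, testBit_lane _ _ _ hxy]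
  split <;> simp

theorem lane_shift_and (r R O k : ℕ) (hr : r < lane) (hk : k < 128) :
    ((r + lane * R) >>> k) &&& (1 + lane * O) = (bif r.testBit k then 1 else 0) +
      lane * ((R >>> k) &&& O) := by
  have h1 : (bif r.testBit k then 1 else 0) < lane := by cases r.testBit k <;> decide
  refine Nat.eq_of_testBit_eq fun i => ?_
  rw [Nat.testBit_and, Nat.testBit_shiftRight, testBit_lane _ _ _ hr,
    testBit_lane 1 O i (by decide), testBit_lane _ _ _ h1]
  by_cases hi : i < 128
  · rw [if_pos hi, if_pos hi]
    rcases Nat.eq_zero_or_pos i with rfl | hpos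
    · rw [if_pos (show k + 0 < 128 by omega), Nat.add_zero]
      cases r.testBit k <;> simp
    · rw [show Nat.testBit 1 i = false from Nat.testBit_eq_false_of_lt (Nat.one_lt_two_pow (by omega))]
      cases r.testBit k
      · simp
      · simp [Nat.testBit_eq_false_of_lt (Nat.one_lt_two_pow (show i ≠ 0 by omega))]
  · rw [if_neg hi, if_neg hi, if_neg (show ¬ k + i < 128 by omega), Nat.testBit_and,
      Nat.testBit_shiftRight, show k + i - 128 = k + (i - 128) by omega]

theorem rowMulFrom_lt : ∀ (B : List ℕ) (r k : ℕ), (∀ a ∈ B, a < lane) → rowMulFrom B r k < lane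
  | [], _, _, _ => by simp [rowMulFrom]
  | a :: B, r, k, h => by
    have h1 := rowMulFrom_lt B r (k + 1) fun b hb => h b (List.mem_cons_of_mem _ hb)
    rw [rowMulFrom]
    cases r.testBit k
    · exact h1
    · exact lane_eq ▸ Nat.xor_lt_two_pow (lane_eq ▸ h a List.mem_cons_self) (lane_eq ▸ h1)

theorem pick_mul (a : ℕ) : ∀ (A : List ℕ) (k : ℕ), k < 128 → (∀ r ∈ A, r < lane) →
    ((pack A >>> k) &&& lanesOne A.length) * a =
      pack (A.map fun r => bif r.testBit k then a else 0)
  | [], k, _, _ => by simp [pack, lanesOne]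
  | r :: A, k, hk, h => by
    rw [List.length_cons, pack, lanesOne, lane_shift_and r _ _ k (h r List.mem_cons_self) hk,
      List.map_cons, pack, ← pick_mul a A k hk fun b hb => h b (List.mem_cons_of_mem _ hb)]
    cases r.testBit k <;> simp [Nat.add_mul, Nat.mul_assoc]

theorem pack_xor : ∀ (A : List ℕ) (f g : ℕ → ℕ), (∀ r ∈ A, f r < lane) → (∀ r ∈ A, g r < lane) →
    pack (A.map f) ^^^ pack (A.map g) = pack (A.map fun r => f r ^^^ g r)
  | [], _, _, _, _ => by simp [pack]
  | r :: A, f, g, hf, hg => by
    simp only [List.map_cons, pack]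
    rw [lane_xor _ _ _ _ (hf r List.mem_cons_self) (hg r List.mem_cons_self),
      pack_xor A f g (fun b hb => hf b (List.mem_cons_of_mem _ hb))
        fun b hb => hg b (List.mem_cons_of_mem _ hb)]

theorem pmulFrom_eq : ∀ (B A : List ℕ) (k : ℕ), k + B.length ≤ 128 → (∀ a ∈ B, a < lane) →
    (∀ r ∈ A, r < lane) →
    pmulFrom (lanesOne A.length) B (pack A) k = pack (A.map fun r => rowMulFrom B r k)
  | [], A, k, _, _, _ => by
    have h0 : ∀ A : List ℕ, pack (A.map fun _ => 0) = 0 := fun A => by
      induction A with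
      | nil => rfl
      | cons r A ih => rw [List.map_cons, pack, ih]; rfl
    simp only [pmulFrom, rowMulFrom]
    rw [h0]
  | a :: B, A, k, hk, hB, hA => by
    rw [List.length_cons] at hk
    have hB' : ∀ b ∈ B, b < lane := fun b hb => hB b (List.mem_cons_of_mem _ hb)
    show ((pack A >>> k) &&& lanesOne A.length) * a ^^^ _ = _
    rw [pick_mul a A k (by omega) hA, pmulFrom_eq B A (k + 1) (by omega) hB' hA,
      pack_xor A _ _ (fun r _ => by cases r.testBit k <;> simp [hB a List.mem_cons_self, lane])
        fun r _ => rowMulFrom_lt B r (k + 1) hB']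
    congr 1
    refine List.map_congr_left fun r _ => ?_
    rw [rowMulFrom]
    cases r.testBit k <;> simp

/-- The tables are rows of at most 112 bits. -/
def Good (G : ℕ → List ℕ) : Prop := ∀ c, (G c).length = 112 ∧ ∀ a ∈ G c, a < lane

theorem evalL_bound {G : ℕ → List ℕ} (hG : Good G) :
    ∀ (w : List ℕ) (A : List ℕ), (∀ r ∈ A, r < lane) →
      evalPack (lanesOne A.length) G w (pack A) = pack (A.map (evalRow G w)) ∧
        ∀ r ∈ A.map (evalRow G w), r < lane
  | [], A, hA => by simpa [evalPack, evalRow] using hA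
  | c :: w, A, hA => by
    have h := evalL_bound hG w (A.map fun r => rowMulFrom (G c) r 0) (by
      intro r hr
      obtain ⟨s, -, rfl⟩ := List.mem_map.1 hr
      exact rowMulFrom_lt _ _ _ (hG c).2)
    rw [List.length_map, List.map_map] at h
    have e : evalRow G (c :: w) = evalRow G w ∘ fun r => rowMulFrom (G c) r 0 := by
      funext r; rw [evalRow, CosetEnum.force_eq, Function.comp_apply, rowMul]
    rw [evalPack, CosetEnum.force_eq, pmulFrom_eq _ _ _ (by rw [(hG c).1]; norm_num) (hG c).2 hA, e]
    exact h

theorem pack_injective : ∀ (A B : List ℕ), A.length = B.length → (∀ r ∈ A, r < lane) →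
    (∀ r ∈ B, r < lane) → pack A = pack B → A = B
  | [], [], _, _, _, _ => rfl
  | [], _ :: _, h, _, _, _ => absurd h (by simp)
  | _ :: _, [], h, _, _, _ => absurd h (by simp)
  | a :: A, b :: B, h, hA, hB, e => by
    rw [pack, pack] at e
    have ha := hA a List.mem_cons_self
    have hb := hB b List.mem_cons_self
    have e1 : a = b := by
      have := congrArg (· % lane) e
      simpa [Nat.add_mul_mod_self_left, Nat.mod_eq_of_lt ha, Nat.mod_eq_of_lt hb] using this
    subst e1
    rw [pack_injective A B (by simpa using h) (fun r hr => hA r (List.mem_cons_of_mem _ hr))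
      (fun r hr => hB r (List.mem_cons_of_mem _ hr))
      (Nat.eq_of_mul_eq_mul_left (by decide) (Nat.add_left_cancel e))]

/-- Two words have the same product. -/
def sameProd (G : ℕ → List ℕ) (v w : List ℕ) : Bool :=
  CosetEnum.force (lanesOne 112) fun o => CosetEnum.force (pack oneL) fun P =>
    Nat.beq (evalPack o G v P) (evalPack o G w P)

theorem prod_eq_of_sameProd {G : ℕ → List ℕ} (hG : Good G) {v w : List ℕ}
    (h : sameProd G v w = true) :
    (v.map fun c => toMat (G c)).prod = (w.map fun c => toMat (G c)).prod := by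
  have h1 : ∀ r ∈ oneL, r < lane := by decide +kernel
  simp only [sameProd, CosetEnum.force_eq] at h
  have h' := Nat.eq_of_beq_eq_true h
  rw [show 112 = oneL.length by simp [oneL], (evalL_bound hG v oneL h1).1,
    (evalL_bound hG w oneL h1).1] at h'
  have hrows := pack_injective _ _ (by simp) (evalL_bound hG v oneL h1).2
    (evalL_bound hG w oneL h1).2 h'
  refine Matrix.ext fun i j => ?_
  have hi : evalRow G v (2 ^ i.val) = evalRow G w (2 ^ i.val) :=
    List.map_inj_left.1 hrows _ (List.mem_map.2 ⟨i.val, List.mem_range.2 i.isLt, rfl⟩)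
  have e : vecOf (2 ^ i.val) = Pi.single i 1 := by
    funext k
    by_cases hk : i = k
    · subst hk; simp [vecOf, bit, Nat.testBit_two_pow]
    · simp [vecOf, bit, Fin.val_ne_of_ne hk, Pi.single_apply, Ne.symm hk]
  have h2 := congrFun (congrArg vecOf hi) j
  rw [vecOf_evalRow G (fun c => (hG c).1), vecOf_evalRow G (fun c => (hG c).1), e,
    Matrix.single_one_vecMul, Matrix.single_one_vecMul] at h2
  exact h2

end CfsgLib.JankoFour
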